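import Groth.Agent.ProEtLib.EpsVanish
import Groth.Agent.S0176

/-!
# Direct images along maps of affine schemes of sheaves coming from the etale site
-/

universe u

open CategoryTheory CategoryTheory.Limits AlgebraicGeometry Opposite MorphismProperty

namespace Groth.Agent.ProLoc71

open SitePullUnit ProStage ProEtLib

set_option backward.isDefEq.respectTransparency.types false

variable {X : Scheme.{u}}

instance isAffine_top [IsAffine X] : IsAffine (EtCoh.top X).left := ‹IsAffine X›

/-- the structure map to the terminal etale scheme -/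
noncomputable def topHom (P : X.ProEt) : P ⟶ (ProEtS.eps X).obj (EtCoh.top X) :=
  MorphismProperty.Over.homMk P.hom (by exact Category.comp_id _)

/-- affine weakly etale schemes over an affine base are covered by limits of affine etale schemes -/
theorem exists_pro_over [IsAffine X] (V : X.ProEt) [IsAffine V.left] :
    ∃ (P : X.ProEt) (g : P ⟶ V), Sieve.generate (Presieve.singleton g) ∈ Scheme.ProEt.topology X V ∧
      IsPro (ovS (topHom P)) := by
  letI : Algebra Γ((EtCoh.top X).left, ⊤) Γ(V.left, ⊤) := (ovS (topHom V)).hom.appTop.hom.toAlgebra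
  have : WeaklyEtale V.hom := V.prop
  have : WeaklyEtale (Spec.map V.hom.appTop) := by
    rw [(Iso.eq_inv_comp _).2 (Scheme.isoSpec_hom_naturality (show V.left ⟶ X from V.hom))]
    infer_instance
  have : WeaklyEtale (Spec.map (CommRingCat.ofHom (algebraMap Γ((EtCoh.top X).left, ⊤) Γ(V.left, ⊤)))) := this
  have := algebraWeaklyEtale_of_spec Γ((EtCoh.top X).left, ⊤) Γ(V.left, ⊤)
  obtain ⟨R, _, _, _, htow, hff, hie', hie⟩ := S0176.result Γ((EtCoh.top X).left, ⊤) Γ(V.left, ⊤)
  have : Algebra.WeaklyEtale Γ(V.left, ⊤) R := S0736.result _ _ hie'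
  have := weaklyEtale_spec Γ(V.left, ⊤) R
  have : Surjective (Spec.map (CommRingCat.ofHom (algebraMap Γ(V.left, ⊤) R))) :=
    ⟨PrimeSpectrum.comap_surjective_of_faithfullyFlat⟩
  let p : Spec (CommRingCat.of R) ⟶ V.left :=
    Spec.map (CommRingCat.ofHom (algebraMap Γ(V.left, ⊤) R)) ≫ V.left.isoSpec.inv
  let P : X.ProEt := Scheme.ProEt.mk (p ≫ V.hom)
  let g : P ⟶ V := MorphismProperty.Over.homMk p
  have hP : IsAffine P.left := inferInstanceAs (IsAffine (Spec (CommRingCat.of R)))
  refine ⟨P, g, @singleton_mem_topology _ _ _ g (inferInstanceAs (QuasiCompact p))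
    (inferInstanceAs (Surjective p)), ?_⟩
  have : IsAffine (ovS (topHom P)).left := hP
  refine isPro_of_isIndEtale ?_
  letI : Algebra Γ((EtCoh.top X).left, ⊤) Γ(P.left, ⊤) := (ovS (topHom P)).hom.appTop.hom.toAlgebra
  show EtPBC.IsIndEtale Γ((EtCoh.top X).left, ⊤) Γ(P.left, ⊤)
  refine IndEtLib.isIndEtale_of_factor fun Q _ _ _ φ => ?_
  let e : Γ(P.left, ⊤) ≃+* R := (Scheme.ΓSpecIso (CommRingCat.of R)).commRingCatIsoToRingEquiv
  have he : ∀ r, e (algebraMap Γ((EtCoh.top X).left, ⊤) Γ(P.left, ⊤) r) = algebraMap Γ((EtCoh.top X).left, ⊤) R r := fun r => by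
    have h2 : p.appTop ≫ (Scheme.ΓSpecIso (CommRingCat.of R)).hom =
        CommRingCat.ofHom (algebraMap Γ(V.left, ⊤) R) := by
      rw [Scheme.Hom.comp_appTop, Category.assoc, Scheme.ΓSpecIso_naturality]
      have h3 := congrArg (fun f : V.left ⟶ V.left => f.appTop) V.left.isoSpec.hom_inv_id
      simp only [Scheme.Hom.comp_appTop, Scheme.isoSpec_hom, Scheme.toSpecΓ_appTop] at h3
      exact (Category.assoc _ _ _).symm.trans ((congrArg (· ≫ _) h3).trans (Category.id_comp _))
    rw [IsScalarTower.algebraMap_apply Γ((EtCoh.top X).left, ⊤) Γ(V.left, ⊤) R r]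
    refine Eq.trans ?_ (ConcreteCategory.congr_hom h2 _)
    refine congrArg e (ConcreteCategory.congr_hom (Scheme.Hom.comp_appTop p V.hom) r)
  let e' : Γ(P.left, ⊤) ≃ₐ[Γ((EtCoh.top X).left, ⊤)] R := AlgEquiv.ofRingEquiv (f := e) he
  obtain ⟨Y, hY, ⟨eY⟩⟩ := IndEtLib.exists_sys hie
  obtain ⟨j, ψ, hψ⟩ := Y.exists_lift Q (eY.symm.toAlgHom.comp (e'.toAlgHom.comp φ))
  refine ⟨Y.A j, inferInstance, inferInstance, hY j, ψ, e'.symm.toAlgHom.comp (eY.toAlgHom.comp (Y.ι j)),
    AlgHom.ext fun q => ?_⟩
  simp only [AlgHom.comp_apply, AlgEquiv.toAlgHom_apply]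
  rw [show Y.ι j (ψ q) = eY.symm (e' (φ q)) from AlgHom.congr_fun hψ q]
  simp

/-- a sieve containing all maps from limits of stages covers -/
theorem mem_of_pro [IsAffine X] {U : X.ProEt} (S : Sieve U)
    (h : ∀ (P : X.ProEt) (g : P ⟶ U), IsPro (ovS (topHom P)) → S.arrows g) :
    S ∈ Scheme.ProEt.topology X U := by
  let ι := U.left.affineOpens
  refine GrothendieckTopology.transitive _ (opens_mem_topology U (ι := ι) (fun W => W.1) fun x => by
    obtain ⟨W, hW, hx, -⟩ := exists_isAffineOpen_mem_and_subset (show x ∈ (⊤ : U.left.Opens) from trivial)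
    exact ⟨⟨W, hW⟩, hx⟩) S ?_
  rintro Y f ⟨Z, a, _, ⟨W⟩, rfl⟩
  rw [Sieve.pullback_comp]
  apply GrothendieckTopology.pullback_stable
  have : IsAffine (opObj U W.1).left := W.2
  obtain ⟨P, g, hg, hP⟩ := exists_pro_over (opObj U W.1)
  refine GrothendieckTopology.superset_covering _ ?_ hg
  rintro T k ⟨P', b, _, ⟨⟩, rfl⟩
  refine Sieve.downward_closed _ ?_ b
  exact h P (g ≫ opHom U W.1) hP

variable [ProEtS.EpsCont X]

/-- constructed adjunction -/
noncomputable abbrev adC [RepresentablyFlat (ProEtS.eps X)] :=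
  Functor.sheafPullbackConstruction.sheafAdjunctionContinuous (ProEtS.eps X) AddCommGrpCat.{u + 1}
    X.smallEtaleTopology (Scheme.ProEt.topology X)

theorem bijective_conUnit (F : EtCoh.Ab X) (U : X.Etale) :
    Function.Bijective ((conUnit (ProEtS.eps X) (Scheme.ProEt.topology X) F).app (op U)) := by
  have := repFlat_eps (X := X)
  have : IsIso ((adC (X := X)).unit.app F) := by
    refine (Sheaf.isLocallyBijective_iff_isIso _).1 ⟨?_, ?_⟩
    · change Presheaf.IsLocallyInjective _ ((adC (X := X)).unit.app F).hom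
      rw [unit_con]
      exact isLocallyInjective_conUnit F
    · change Presheaf.IsLocallySurjective _ ((adC (X := X)).unit.app F).hom
      rw [unit_con]
      exact isLocallySurjective_conUnit F
  have : IsIso (((adC (X := X)).unit.app F).hom.app (op U)) :=
    inferInstanceAs (IsIso (((sheafToPresheaf _ _).map ((adC (X := X)).unit.app F)).app (op U)))
  rw [← unit_con]
  exact ConcreteCategory.bijective_of_isIso (((adC (X := X)).unit.app F).hom.app (op U))

theorem counit_sGerm [RepresentablyFlat (ProEtS.eps X)] (G : ProEtS.AbP X) {d : X.ProEt} {U : X.Etale}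
    (b : d ⟶ (ProEtS.eps X).obj U) (x : G.obj.obj (op ((ProEtS.eps X).obj U))) :
    ((adC (X := X)).counit.app G).hom.app (op d)
      (sGerm (ProEtS.eps X) (Scheme.ProEt.topology X) ((ProEtS.epsPush X).obj G) b x) = G.obj.map b.op x := by
  refine (NatTrans.naturality_apply ((adC (X := X)).counit.app G).hom b.op _).trans ?_
  refine congrArg (G.obj.map b.op) ?_
  have h := congrArg (fun k : (ProEtS.epsPush X).obj G ⟶ (ProEtS.epsPush X).obj G => k.hom.app (op U) x)
    ((adC (X := X)).right_triangle_components G)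
  refine Eq.trans ?_ h
  rw [← unit_con]
  rfl

section Push

theorem isAffine_pb {X W A : Scheme.{u}} (π : W ⟶ X) (a : A ⟶ X) [IsAffine W] [IsAffine X] [IsAffine A] :
    IsAffine (pullback a π) := inferInstance

variable {W : Scheme.{u}} (π : W ⟶ X) [IsAffine W] [IsAffine X] [ProEtS.EpsCont W] [ProEtS.PCont π]
  {P : X.ProEt}

/-- the base change of the diagram of stages -/
noncomputable abbrev bcDiag (P : X.ProEt) :
    StructuredArrow (ovS (topHom P)) (toOv (EtCoh.top X).left) ⥤ Scheme.{u} :=
  StructuredArrow.proj _ _ ⋙ toX (EtCoh.top X) ⋙ EtCoh.bc π ⋙ Scheme.Etale.forget W ⋙ CategoryTheory.Over.forget W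

/-- the base change of the cone of stages -/
noncomputable abbrev bcCone (P : X.ProEt) : Cone (bcDiag π P) where
  pt := ((ProEtS.bcP π).obj P).left
  π :=
    { app := fun a => ((ProEtS.bcP π).map (sMap a)).left
      naturality := fun a b g => by
        refine (Category.id_comp _).trans ?_
        exact congrArg (fun f => f.left) (((congrArg (ProEtS.bcP π).map (sMap_map g)).symm).trans
          ((ProEtS.bcP π).map_comp _ _)) }

/-- base changes of limits of stages are limits -/
theorem nonempty_isLimit_bc (hP : IsPro (ovS (topHom P))) : Nonempty (IsLimit (bcCone π P)) := by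
  let A := StructuredArrow (ovS (topHom P)) (toOv (EtCoh.top X).left)
  let D : A ⥤ CategoryTheory.Over X :=
    StructuredArrow.proj _ _ ⋙ toX (EtCoh.top X) ⋙ Scheme.Etale.forget X
  let c : Cone D :=
    { pt := CategoryTheory.Over.mk P.hom
      π :=
        { app := fun a => CategoryTheory.Over.homMk (sMap a).left (MorphismProperty.Over.w (sMap a))
          naturality := fun a b g => CategoryTheory.Over.OverMorphism.ext (by
            refine (Category.id_comp _).trans ?_
            exact congrArg (fun f => f.left) (sMap_map g).symm) } }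
  have : IsConnected A := IsCofiltered.isConnected A
  have hc : IsLimit c := by
    refine isLimitOfReflects (CategoryTheory.Over.forget X) ?_
    exact IsLimit.ofIsoLimit hP.isLimit.some (Cone.ext (Iso.refl _) fun a => (Category.id_comp _).symm)
  refine ⟨IsLimit.ofIsoLimit (isLimitOfPreserves (CategoryTheory.Over.pullback π ⋙ CategoryTheory.Over.forget W) hc)
    (Cone.ext (Iso.refl _) fun a => (Category.id_comp _).symm)⟩

variable (E : EtCoh.Ab W)

/-- the direct image -/
noncomputable abbrev img : ProEtS.AbP X :=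
  (ProEtS.pushP π).obj ((pullC W).obj E)

variable [RepresentablyFlat (ProEtS.eps X)] [RepresentablyFlat (ProEtS.eps W)]

theorem germ_zero (hP : IsPro (ovS (topHom P))) {U : X.Etale} (b : P ⟶ (ProEtS.eps X).obj U)
    (x : (img π E).obj.obj (op ((ProEtS.eps X).obj U))) (hx : (img π E).obj.map b.op x = 0) :
    sGerm (ProEtS.eps X) (Scheme.ProEt.topology X) ((ProEtS.epsPush X).obj (img π E)) b x = 0 := by
  have hU : Etale U.hom := U.prop
  let T : CategoryTheory.Over (EtCoh.top X).left := CategoryTheory.Over.mk (show U.left ⟶ (EtCoh.top X).left from U.hom)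
  have : LocallyOfFinitePresentation T.hom := inferInstanceAs (LocallyOfFinitePresentation U.hom)
  let a₀ : ovS (topHom P) ⟶ T := CategoryTheory.Over.homMk b.left (MorphismProperty.Over.w b)
  have hA : ∀ i : StructuredArrow (ovS (topHom P)) (toOv (EtCoh.top X).left),
      IsAffine ((StructuredArrow.proj _ (toOv (EtCoh.top X).left) ⋙ toOv (EtCoh.top X).left).obj i).left := fun i => isAffine_toOv i.right
  obtain ⟨i, g, hg⟩ := ProStage.exists_factor
    (StructuredArrow.proj (ovS (topHom P)) (toOv (EtCoh.top X).left) ⋙ toOv (EtCoh.top X).left)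
    { app := fun i => i.hom
      naturality := fun i j h => (Category.id_comp _).trans (StructuredArrow.w h).symm }
    hP.isLimit.some T a₀
  let h : (toX (EtCoh.top X)).obj i.right ⟶ U := MorphismProperty.Over.homMk g.left (by
    exact (CategoryTheory.Over.w g).trans (Category.comp_id _).symm)
  have hb : sMap i ≫ (ProEtS.eps X).map h = b := MorphismProperty.Over.Hom.ext (congrArg (fun e => e.left) hg)
  let y := ((ProEtS.epsPush X).obj (img π E)).obj.map h.op x
  have hy : (img π E).obj.map (sMap i).op y = 0 := by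
    rw [← hx, ← hb, op_comp, Functor.map_comp_apply]
    rfl
  obtain ⟨e, he⟩ := (bijective_conUnit E ((EtCoh.bc π).obj ((toX (EtCoh.top X)).obj i.right))).2 y
  let D := bcDiag π P
  have : ∀ j, IsAffine (D.obj j) := fun j => by
    have : IsAffine ((toX (EtCoh.top X)).obj j.right).left := isAffine_toOv j.right
    exact isAffine_pb π (A := ((toX (EtCoh.top X)).obj j.right).left) ((toX (EtCoh.top X)).obj j.right).hom
  have : ∀ {i j} (g : i ⟶ j), IsAffineHom (D.map g) := fun {i j} g => isAffineHom_of_isAffine _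
  have : ∀ j, CompactSpace (D.obj j) := fun j => inferInstance
  let b' : (ProEtS.bcP π).obj P ⟶ (ProEtS.eps W).obj ((EtCoh.bc π).obj ((toX (EtCoh.top X)).obj i.right)) :=
    (ProEtS.bcP π).map (sMap i)
  have h0 : sGerm (ProEtS.eps W) (Scheme.ProEt.topology W) E b' e =
      sGerm (ProEtS.eps W) (Scheme.ProEt.topology W) E b' 0 := by
    rw [sGerm_zero, sGerm, he]
    exact hy
  obtain ⟨j, f, hf⟩ := exists_map_eq_top D _ (nonempty_isLimit_bc π hP).some (i := i) (agree E e 0)
    (eq_top_iff.2 fun z _ => sGerm_agree E b' e 0 h0 z)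
  let k := (toX (EtCoh.top X)).map f.right
  have hk : E.obj.map ((EtCoh.bc π).map k).op e = 0 :=
    (map_eq_of_agree E ((EtCoh.bc π).map k) e 0 fun z =>
      hf.ge (trivial : z ∈ (⊤ : (D.obj j).Opens))).trans (map_zero _)
  have hky : ((ProEtS.epsPush X).obj (img π E)).obj.map k.op y = 0 := by
    rw [← he]
    refine ((NatTrans.naturality_apply (conUnit (ProEtS.eps W) (Scheme.ProEt.topology W) E)
      ((EtCoh.bc π).map k).op e).symm).trans ?_
    rw [hk]; exact map_zero _
  calc _ = sGerm (ProEtS.eps X) (Scheme.ProEt.topology X) ((ProEtS.epsPush X).obj (img π E)) (sMap i) y := by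
        rw [sGerm_map, hb]
    _ = sGerm (ProEtS.eps X) (Scheme.ProEt.topology X) ((ProEtS.epsPush X).obj (img π E)) (sMap j)
          (((ProEtS.epsPush X).obj (img π E)).obj.map k.op y) :=
        ((sGerm_map (ProEtS.eps X) (Scheme.ProEt.topology X) _ k (sMap j) y).trans
          (congrArg (fun b => sGerm (ProEtS.eps X) (Scheme.ProEt.topology X) ((ProEtS.epsPush X).obj (img π E)) b y) (sMap_map f))).symm
    _ = 0 := by rw [hky, sGerm_zero]

theorem exists_preimage (hP : IsPro (ovS (topHom P))) (s : (img π E).obj.obj (op P)) :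
    ∃ (U : X.Etale) (b : P ⟶ (ProEtS.eps X).obj U) (x : (img π E).obj.obj (op ((ProEtS.eps X).obj U))),
      (img π E).obj.map b.op x = s := by
  let W₀ : W.Etale := (EtCoh.bc π).obj (EtCoh.top X)
  have : IsAffine W₀.left := isAffine_pb π (A := (EtCoh.top X).left) (EtCoh.top X).hom
  have : IsAffine P.left := hP.isAffine
  let w : (ProEtS.bcP π).obj P ⟶ (ProEtS.eps W).obj W₀ := (ProEtS.bcP π).map (topHom P)
  have : IsAffine (ovS w).left := isAffine_pb π (A := P.left) P.hom
  let A := StructuredArrow (ovS (topHom P)) (toOv (EtCoh.top X).left)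
  let G : A ⥤ CategoryTheory.Over W₀.left :=
    { obj := fun a => CategoryTheory.Over.mk ((EtCoh.bc π).map (toXBase (EtCoh.top X) a.right)).left
      map := fun {a b} g => CategoryTheory.Over.homMk ((bcDiag π P).map g) (by
        refine congrArg (fun f => f.left) (((EtCoh.bc π).map_comp _ _).symm.trans
          (congrArg (EtCoh.bc π).map (MorphismProperty.Over.Hom.ext ?_)))
        exact CategoryTheory.Over.w ((toOv (EtCoh.top X).left).map g.right))
      map_id := fun a => CategoryTheory.Over.OverMorphism.ext ((bcDiag π P).map_id a)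
      map_comp := fun f g => CategoryTheory.Over.OverMorphism.ext ((bcDiag π P).map_comp f g) }
  have hA : ∀ a, IsAffine (G.obj a).left := fun a => by
    have : IsAffine ((toX (EtCoh.top X)).obj a.right).left := isAffine_toOv a.right
    exact isAffine_pb π (A := ((toX (EtCoh.top X)).obj a.right).left) ((toX (EtCoh.top X)).obj a.right).hom
  have hE : ∀ a, Etale (G.obj a).hom := fun a => EtFound.etale_left _
  let πc : (Functor.const A).obj (ovS w) ⟶ G :=
    { app := fun a => CategoryTheory.Over.homMk ((bcCone π P).π.app a) (by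
        exact congrArg (fun f => f.left) (((ProEtS.bcP π).map_comp _ _).symm.trans
          (congrArg (ProEtS.bcP π).map (sMap_base a))))
      naturality := fun a b g => CategoryTheory.Over.OverMorphism.ext ((bcCone π P).π.naturality g) }
  have hc : IsLimit ((CategoryTheory.Over.forget W₀.left).mapCone (Cone.mk (ovS w) πc)) :=
    IsLimit.ofIsoLimit (nonempty_isLimit_bc π hP).some (Cone.ext (Iso.refl _) fun a => (Category.id_comp _).symm)
  obtain ⟨a, x, hx⟩ := exists_germ E (isPro_of_isLimit G πc hc) s
  obtain ⟨i, g, hg⟩ := ProStage.exists_factor G πc hc ((toOv W₀.left).obj a.right) a.hom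
  let U := (toX (EtCoh.top X)).obj i.right
  let h : (EtCoh.bc π).obj U ⟶ (toX W₀).obj a.right := MorphismProperty.Over.homMk g.left (by
    change g.left ≫ ((toOv W₀.left).obj a.right).hom ≫ W₀.hom = _
    rw [← Category.assoc]
    exact (congrArg (· ≫ W₀.hom) (CategoryTheory.Over.w g)).trans
      (MorphismProperty.Over.w ((EtCoh.bc π).map (toXBase (EtCoh.top X) i.right))))
  refine ⟨U, sMap i, (conUnit (ProEtS.eps W) (Scheme.ProEt.topology W) E).app (op ((EtCoh.bc π).obj U))
    (E.obj.map h.op x), ?_⟩
  change sGerm (ProEtS.eps W) (Scheme.ProEt.topology W) E ((ProEtS.bcP π).map (sMap i)) (E.obj.map h.op x) = s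
  rw [← hx, sGerm_map]
  exact congrArg (fun b => sGerm (ProEtS.eps W) (Scheme.ProEt.topology W) E b x)
    (MorphismProperty.Over.Hom.ext (congrArg (fun e => e.left) hg))

theorem isIso_counit_img : IsIso ((adC (X := X)).counit.app (img π E)) := by
  let c := (adC (X := X)).counit.app (img π E)
  refine (Sheaf.isLocallyBijective_iff_isIso c).1 ⟨⟨fun {V} s t hst => ?_⟩, ⟨fun {V} s => ?_⟩⟩
  · have hz : c.hom.app V (s - t) = 0 := by rw [map_sub]; exact sub_eq_zero.2 hst
    obtain ⟨R, hR, hR'⟩ := exists_cover_sGerm (ProEtS.eps X) (Scheme.ProEt.topology X) _ (s - t)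
    refine GrothendieckTopology.transitive _ hR _ fun Y f hf => mem_of_pro _ fun P g hP => ?_
    obtain ⟨U, b, x, hx⟩ := hR' f hf
    have hP' : sGerm (ProEtS.eps X) (Scheme.ProEt.topology X) ((ProEtS.epsPush X).obj (img π E)) (g ≫ b) x = 0 := by
      refine germ_zero π E hP (g ≫ b) x ?_
      refine (counit_sGerm (img π E) (g ≫ b) x).symm.trans ?_
      refine (congrArg (c.hom.app (op P)) ((map_sGerm (ProEtS.eps X) (Scheme.ProEt.topology X) _ g b x).symm.trans
        (congrArg _ hx))).trans ?_
      refine (NatTrans.naturality_apply c.hom g.op _).trans ?_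
      refine (congrArg ((img π E).obj.map g.op) ((NatTrans.naturality_apply c.hom f.op (s - t)).trans
        (congrArg _ hz))).trans ?_
      simp
    show _ = _
    rw [← sub_eq_zero, ← map_sub, op_comp, Functor.map_comp_apply]
    exact ((congrArg _ hx).symm.trans (map_sGerm _ _ _ g b x)).trans hP'
  · refine mem_of_pro _ fun P g hP => ?_
    obtain ⟨U, b, x, hx⟩ := exists_preimage π E hP ((img π E).obj.map g.op s)
    exact ⟨sGerm (ProEtS.eps X) (Scheme.ProEt.topology X) ((ProEtS.epsPush X).obj (img π E)) b x,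
      (counit_sGerm _ b x).trans hx⟩

end Push

end Groth.Agent.ProLoc71
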