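import Groth.Agent.EtModLC71.Pull
import Groth.Agent.EtModLC71.Basic
import Groth.Agent.ProEtLib.Ring
import Mathlib.AlgebraicGeometry.Morphisms.Flat
import Mathlib.RingTheory.Finiteness.Cardinality

/-!
# Descent of local constancy of etale sheaves of modules along weakly etale covers
-/

universe u

open CategoryTheory CategoryTheory.Limits AlgebraicGeometry Opposite

namespace Groth.Agent.ProLoc71

open EtModLC71

set_option backward.isDefEq.respectTransparency.types false

variable {Λ : Type (u + 1)} [CommRing Λ] {X : Scheme.{u}}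

/-- fibre elements lift along weakly etale morphisms through every point over their centre -/
theorem exists_fiber_through {P V : Scheme.{u}} (p : P ⟶ V) [WeaklyEtale p] {Ω : Type u} [Field Ω] [IsSepClosed Ω]
    (a : Spec (CommRingCat.of Ω) ⟶ V) (y : P) (hy : p.base y = a.base (default : Spec (CommRingCat.of Ω))) :
    ∃ l : Spec (CommRingCat.of Ω) ⟶ P, l ≫ p = a ∧ l.base (default : Spec (CommRingCat.of Ω)) = y := by
  obtain ⟨w, -, hw⟩ := Scheme.Pullback.exists_preimage_pullback (f := a) (g := p) default y hy.symm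
  obtain ⟨s, hs, hs'⟩ := ProEtLib.exists_section_through Ω (pullback.fst a p) w
  refine ⟨s ≫ pullback.snd a p, ?_, ?_⟩
  · rw [Category.assoc, ← pullback.condition, ← Category.assoc, hs, Category.id_comp]
  · rw [Scheme.Hom.comp_apply, hs']; exact hw

/-- homomorphisms from finitely presented modules into stalks lift to sections -/
theorem exists_lift_stalk (F : EtModW.Mod Λ X) {Ω : Type u} [Field Ω] [IsSepClosed Ω]
    (ξ : Spec (CommRingCat.of Ω) ⟶ X) {U : X.Etale} (u₀ : (Scheme.pointSmallEtale ξ).fiber.obj U)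
    (M : ModuleCat.{u + 1} Λ) [Module.FinitePresentation Λ M] (g : M ⟶ (Scheme.pointSmallEtale ξ).presheafFiber.obj F.obj) :
    ∃ (V : X.Etale) (_ : V ⟶ U) (v : (Scheme.pointSmallEtale ξ).fiber.obj V) (φ : M ⟶ F.obj.obj (op V)),
      φ ≫ (Scheme.pointSmallEtale ξ).toPresheafFiber V v F.obj = g := by
  classical
  let Φ := Scheme.pointSmallEtale ξ
  obtain ⟨n, K, e, hK⟩ := Module.FinitePresentation.exists_fin Λ M
  let π : (Fin n → Λ) →ₗ[Λ] M := e.symm.toLinearMap.comp K.mkQ
  have hπ : Function.Surjective π := e.symm.surjective.comp K.mkQ_surjective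
  let b : Fin n → M := fun k => π (Pi.single k 1)
  -- the images of the generators come from one neighbourhood
  choose V₁ v₁ y₁ hy₁ using fun k => Φ.toPresheafFiber_jointly_surjective (g (b k))
  obtain ⟨⟨W₀, w₀⟩, hW₀⟩ := IsCofiltered.inf_objs_exists
    (insert (Φ.fiber.elementsMk U u₀) (Finset.univ.image fun k => Φ.fiber.elementsMk (V₁ k) (v₁ k)))
  obtain ⟨⟨cU, -⟩⟩ := hW₀ (Finset.mem_insert_self _ _)
  have hc : ∀ k, ∃ c : W₀ ⟶ V₁ k, Φ.fiber.map c w₀ = v₁ k := fun k => by
    obtain ⟨⟨c, hc⟩⟩ := hW₀ (Finset.mem_insert_of_mem (Finset.mem_image_of_mem _ (Finset.mem_univ k)))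
    exact ⟨c, hc⟩
  choose c hc using hc
  let L : (Fin n → Λ) →ₗ[Λ] F.obj.obj (op W₀) :=
    (Pi.basisFun Λ (Fin n)).constr Λ fun k => F.obj.map (c k).op (y₁ k)
  let ψ : (Fin n → Λ) →ₗ[Λ] (Φ.presheafFiber (A := ModuleCat.{u + 1} Λ)).obj F.obj :=
    (Φ.toPresheafFiber W₀ w₀ F.obj).hom.comp L
  have hψ : ψ = g.hom.comp π := by
    refine (Pi.basisFun Λ (Fin n)).ext fun k => ?_
    change Φ.toPresheafFiber W₀ w₀ F.obj (L (Pi.basisFun Λ (Fin n) k)) = g (π (Pi.basisFun Λ (Fin n) k))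
    rw [Pi.basisFun_apply, ← hy₁ k]
    rw [show L (Pi.single k 1) = F.obj.map (c k).op (y₁ k) by
      rw [← Pi.basisFun_apply]; exact Module.Basis.constr_basis _ _ _ _]
    exact (Φ.toPresheafFiber_w_apply (c k) w₀ F.obj _).trans (by rw [hc k])
  obtain ⟨s, hs⟩ := hK
  have h0 : ∀ r : (s : Set (Fin n → Λ)), Φ.toPresheafFiber W₀ w₀ F.obj (L r.1) = Φ.toPresheafFiber W₀ w₀ F.obj 0 := fun r => by
    have hr : r.1 ∈ K := hs.le (Submodule.subset_span r.2)
    refine (LinearMap.congr_fun hψ r.1).trans ?_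
    show g (π r.1) = _
    have : π r.1 = 0 := by
      show e.symm (K.mkQ r.1) = 0
      rw [Submodule.mkQ_apply, (Submodule.Quotient.mk_eq_zero K).2 hr, map_zero]
    rw [this, map_zero, map_zero]
  obtain ⟨V, d, v, hv, hd⟩ := EtFound.exists_forall_eq F.obj w₀ _ _ h0
  let L' : (Fin n → Λ) →ₗ[Λ] F.obj.obj (op V) := (F.obj.map d.op).hom.comp L
  have hker : K ≤ LinearMap.ker L' := by
    rw [← hs, Submodule.span_le]
    exact fun r hr => LinearMap.mem_ker.2 ((hd ⟨r, hr⟩).trans (map_zero _))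
  refine ⟨V, d ≫ cU, v, ModuleCat.ofHom ((K.liftQ L' hker).comp e.toLinearMap), ?_⟩
  refine ModuleCat.hom_ext (LinearMap.ext fun m => ?_)
  obtain ⟨r, rfl⟩ := hπ m
  show Φ.toPresheafFiber V v F.obj (K.liftQ L' hker (e (e.symm (K.mkQ r)))) = g (π r)
  rw [LinearEquiv.apply_symm_apply, Submodule.mkQ_apply, Submodule.liftQ_apply]
  refine ((Φ.toPresheafFiber_w_apply d v F.obj _).trans (by rw [hv]; rfl)).trans (LinearMap.congr_fun hψ r)

variable {W : Scheme.{u}} (π : W ⟶ X)

theorem bijective_pull_iff (F : EtModW.Mod Λ X) {V : X.Etale} {M : ModuleCat.{u + 1} Λ} (φ : M ⟶ F.obj.obj (op V))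
    {Ω : Type u} [Field Ω] [IsSepClosed Ω] (η : Spec (CommRingCat.of Ω) ⟶ W)
    (t : (Scheme.pointSmallEtale η).fiber.obj ((EtCoh.bc π).obj V)) :
    Function.Bijective (φ ≫ (Scheme.pointSmallEtale (η ≫ π)).toPresheafFiber V (EtFound.bcFiberEquiv π η V t) F.obj) ↔
      Function.Bijective ((φ ≫ ((pullPushMod (Λ := Λ) π).unit.app F).hom.app (op V)) ≫
        (Scheme.pointSmallEtale η).toPresheafFiber ((EtCoh.bc π).obj V) t ((EtModW.pull Λ π).obj F).obj) := by
  let i := (EtFound.sheafFiberPullIso (A := ModuleCat.{u + 1} Λ) π η).app F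
  have hb : Function.Bijective i.inv := (ConcreteCategory.isIso_iff_bijective i.inv).1 inferInstance
  have e : ∀ m, i.inv ((φ ≫ (Scheme.pointSmallEtale (η ≫ π)).toPresheafFiber V (EtFound.bcFiberEquiv π η V t) F.obj) m) =
      ((φ ≫ ((pullPushMod (Λ := Λ) π).unit.app F).hom.app (op V)) ≫
        (Scheme.pointSmallEtale η).toPresheafFiber ((EtCoh.bc π).obj V) t ((EtModW.pull Λ π).obj F).obj) m := fun m => by
    refine (ConcreteCategory.comp_apply _ _ m).symm.trans (ConcreteCategory.congr_hom ?_ m)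
    exact (Category.assoc _ _ _).trans
      ((congrArg (φ ≫ ·) (EtFound.sheafFiberPullIso_germ π η F V t)).trans (Category.assoc _ _ _).symm)
  rw [← funext e]
  exact (Function.Bijective.of_comp_iff' hb _).symm

/-- for maps into constant families bijectivity is uniform near every geometric point -/
theorem exists_uniform (G : EtModW.Mod Λ W) {U : W.Etale} {N : ModuleCat.{u + 1} Λ} {ψ : N ⟶ G.obj.obj (op U)}
    (hψ : EtFound.ConstBy G ψ) {T : W.Etale} (c : T ⟶ U) {M : ModuleCat.{u + 1} Λ} [Module.Finite Λ M]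
    (φ : M ⟶ G.obj.obj (op T)) {Ω : Type u} [Field Ω] [IsAlgClosed Ω] (η : Spec (CommRingCat.of Ω) ⟶ W)
    (t : (Scheme.pointSmallEtale η).fiber.obj T) :
    ∃ O : T.left.Opens, (t.left : Spec (CommRingCat.of Ω) ⟶ T.left).base (default : Spec (CommRingCat.of Ω)) ∈ O ∧
      ∀ (Ω' : Type u) [Field Ω'] [IsAlgClosed Ω'] (η' : Spec (CommRingCat.of Ω') ⟶ W)
        (t' : (Scheme.pointSmallEtale η').fiber.obj T),
        (t'.left : Spec (CommRingCat.of Ω') ⟶ T.left).base (default : Spec (CommRingCat.of Ω')) ∈ O →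
        (Function.Bijective (φ ≫ (Scheme.pointSmallEtale η').toPresheafFiber T t' G.obj) ↔
          Function.Bijective (φ ≫ (Scheme.pointSmallEtale η).toPresheafFiber T t G.obj)) := by
  let Φ := Scheme.pointSmallEtale η
  let e : N ≃ₗ[Λ] ((Φ.presheafFiber (A := ModuleCat.{u + 1} Λ)).obj G.obj : ModuleCat.{u + 1} Λ) :=
    LinearEquiv.ofBijective ((ψ ≫ G.obj.map c.op) ≫ Φ.toPresheafFiber T t G.obj).hom
      ((hψ.restrict c) Ω η t)
  let h : M ⟶ N := ModuleCat.ofHom (e.symm.toLinearMap.comp (φ ≫ Φ.toPresheafFiber T t G.obj).hom)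
  obtain ⟨k, s, hs⟩ := Module.Finite.exists_fin (R := Λ) (M := M)
  have key : ∀ i, Φ.toPresheafFiber T t G.obj (φ (s i)) =
      Φ.toPresheafFiber T t G.obj ((h ≫ ψ ≫ G.obj.map c.op) (s i)) := fun i =>
    (e.apply_symm_apply ((φ ≫ Φ.toPresheafFiber T t G.obj).hom (s i))).symm
  obtain ⟨T', d, t₁, ht₁, hd⟩ := EtFound.exists_forall_eq G.obj t _ _ key
  have hdm : φ ≫ G.obj.map d.op = (h ≫ ψ ≫ G.obj.map c.op) ≫ G.obj.map d.op :=
    ModuleCat.hom_ext (LinearMap.ext_on_range hs hd)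
  have hd' : Etale d.left := EtFound.etale_left d
  refine ⟨⟨Set.range d.left.base, d.left.isOpenMap.isOpen_range⟩,
    ⟨(t₁.left : Spec (CommRingCat.of Ω) ⟶ T'.left).base (default : Spec (CommRingCat.of Ω)), ?_⟩, ?_⟩
  · rw [← ht₁]
    exact (Scheme.Hom.comp_apply _ _ _).symm
  intro Ω' _ _ η' t' ⟨y, hy⟩
  have main : ∀ (Ω' : Type u) [Field Ω'] [IsAlgClosed Ω'] (η' : Spec (CommRingCat.of Ω') ⟶ W)
      (t' : (Scheme.pointSmallEtale η').fiber.obj T) (t₂ : (Scheme.pointSmallEtale η').fiber.obj T'),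
      (Scheme.pointSmallEtale η').fiber.map d t₂ = t' →
      (Function.Bijective (φ ≫ (Scheme.pointSmallEtale η').toPresheafFiber T t' G.obj) ↔ Function.Bijective h) := by
    intro Ω' _ _ η' t' t₂ ht₂
    have e1 : φ ≫ (Scheme.pointSmallEtale η').toPresheafFiber T t' G.obj =
        h ≫ ((ψ ≫ G.obj.map c.op) ≫ (Scheme.pointSmallEtale η').toPresheafFiber T t' G.obj) := by
      rw [← ht₂, ← (Scheme.pointSmallEtale η').toPresheafFiber_w d t₂ G.obj, ← Category.assoc φ, hdm]
      simp only [Category.assoc]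
    rw [e1]
    exact Function.Bijective.of_comp_iff' ((hψ.restrict c) Ω' η' t') _
  obtain ⟨l, hl, -⟩ := exists_fiber_through (show T'.left ⟶ T.left from d.left) t'.left y hy
  have hl' : l ≫ T'.hom = η' := by
    rw [← MorphismProperty.Over.w d, ← Category.assoc]
    exact (congrArg (· ≫ T.hom) hl).trans (CategoryTheory.Over.w t')
  exact (main Ω' η' t' (CategoryTheory.Over.homMk l hl') (CategoryTheory.Over.OverMorphism.ext hl)).trans
    (main Ω η t t₁ ht₁).symm

/-- fibre products of affine schemes over an affine open are affine -/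
theorem isAffine_pullback_of_range {V Y : Scheme.{u}} [IsAffine V] [IsAffine Y] (f : V ⟶ X) (g : Y ⟶ X)
    (A : X.Opens) (hA : IsAffineOpen A) (hf : Set.range f.base ⊆ (A : Set X)) (hg : Set.range g.base ⊆ (A : Set X)) :
    IsAffine (pullback f g) := by
  let f' := IsOpenImmersion.lift A.ι f (hf.trans A.range_ι.ge)
  let g' := IsOpenImmersion.lift A.ι g (hg.trans A.range_ι.ge)
  have hf' : f' ≫ A.ι = f := IsOpenImmersion.lift_fac _ _ _
  have hg' : g' ≫ A.ι = g := IsOpenImmersion.lift_fac _ _ _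
  have : IsAffine A.toScheme := hA
  have hc : pullback.fst f g ≫ f' = pullback.snd f g ≫ g' := by
    rw [← cancel_mono A.ι, Category.assoc, Category.assoc, hf', hg', pullback.condition]
  let e : pullback f g ≅ pullback f' g' :=
    { hom := pullback.lift (pullback.fst f g) (pullback.snd f g) hc
      inv := pullback.lift (pullback.fst f' g') (pullback.snd f' g') (by
        rw [← hf', ← hg', pullback.condition_assoc])
      hom_inv_id := by
        apply pullback.hom_ext <;> rw [Category.assoc, Category.id_comp]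
        · rw [pullback.lift_fst, pullback.lift_fst]
        · rw [pullback.lift_snd, pullback.lift_snd]
      inv_hom_id := by
        apply pullback.hom_ext <;> rw [Category.assoc, Category.id_comp]
        · rw [pullback.lift_fst, pullback.lift_fst]
        · rw [pullback.lift_snd, pullback.lift_snd] }
  have : IsIso e.hom := e.isIso_hom
  exact IsAffine.of_isIso e.hom

/-- descent of local constancy along a finite weakly etale cover of an affine scheme -/
theorem exists_constBy_of_cover (F : EtModW.Mod Λ X) (A₀ : X.Opens) (hA₀ : IsAffineOpen A₀) {ι : Type u} [Finite ι]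
    (Y : ι → Scheme.{u}) [∀ i, IsAffine (Y i)] (p : ∀ i, Y i ⟶ X) [∀ i, WeaklyEtale (p i)]
    (hpA : ∀ i, Set.range (p i).base ⊆ (A₀ : Set X)) (hp : ∀ x ∈ A₀, ∃ i, x ∈ Set.range (p i).base)
    (M : ι → ModuleCat.{u + 1} Λ) [∀ i, Module.FinitePresentation Λ (M i)]
    (U : ∀ i, (Y i).Etale) (hU : ∀ i y, y ∈ Set.range (U i).hom.base)
    [∀ i, IsAffine (U i).left]
    (ψ : ∀ i, M i ⟶ ((EtModW.pull Λ (p i)).obj F).obj.obj (op (U i))) (hψ : ∀ i, EtFound.ConstBy _ (ψ i))
    (htop : ∀ i (T : (Y i).Etale), Nonempty (T ⟶ U i)) (x : X) (hx : x ∈ A₀) :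
    ∃ (i : ι) (V : X.Etale) (v : V.left) (φ : M i ⟶ F.obj.obj (op V)), V.hom.base v = x ∧ EtFound.ConstBy F φ := by
  obtain ⟨i, y, hy⟩ := hp x hx
  obtain ⟨Ω, _, _, η, hη⟩ := exists_point y
  let Φ := Scheme.pointSmallEtale (η ≫ p i)
  obtain ⟨z₀, hz₀⟩ : ∃ z₀ : (Scheme.pointSmallEtale η).fiber.obj (U i), True := by
    obtain ⟨b, hb⟩ := hU i y
    obtain ⟨z, -⟩ := Scheme.pointSmallEtaleFiberObjToPreimage_surjective η hη (U i) ⟨b, hb⟩
    exact ⟨z, trivial⟩
  let g : M i ⟶ Φ.presheafFiber.obj F.obj :=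
    (ψ i ≫ (Scheme.pointSmallEtale η).toPresheafFiber (U i) z₀ _) ≫ (stalkPullMod (p i) η).hom.app F
  have hg : Function.Bijective g := by
    have h1 : Function.Bijective ((stalkPullMod (Λ := Λ) (p i) η).hom.app F) :=
      (ConcreteCategory.isIso_iff_bijective _).1 inferInstance
    exact h1.comp (hψ i Ω η z₀)
  -- an affine neighbourhood
  let Xt : X.Etale := EtCoh.top X
  let u₀ : Φ.fiber.obj Xt := CategoryTheory.Over.homMk (η ≫ p i) (Category.comp_id _)
  obtain ⟨V₁, -, v₁, φ₁, hφ₁⟩ := exists_lift_stalk F (η ≫ p i) u₀ (M i) g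
  let q₁ := (v₁.left : Spec (CommRingCat.of Ω) ⟶ V₁.left).base (default : Spec (CommRingCat.of Ω))
  have hq₀ : V₁.hom.base q₁ ∈ A₀ := by
    refine hpA i ⟨η.base (default : Spec (CommRingCat.of Ω)), ?_⟩
    exact ((Scheme.Hom.comp_apply _ _ _).symm.trans
      (congrArg (fun k : Spec (CommRingCat.of Ω) ⟶ X => k.base (default : Spec (CommRingCat.of Ω)))
        (CategoryTheory.Over.w v₁)).symm).trans (Scheme.Hom.comp_apply _ _ _)
  obtain ⟨A, hA, hq₁, hAA₀⟩ := exists_isAffineOpen_mem_and_subset (show q₁ ∈ (V₁.hom ⁻¹ᵁ A₀ : V₁.left.Opens) from hq₀)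
  let V := EtFound.restrictEtale V₁ A
  have hVaff : IsAffine V.left := hA
  let φ := φ₁ ≫ F.obj.map (EtFound.restrictEtaleHom V₁ A).op
  obtain ⟨l, hl, -⟩ := exists_fiber_through A.ι v₁.left (⟨q₁, hq₁⟩ : A) rfl
  let v : Φ.fiber.obj V := CategoryTheory.Over.homMk l (by
    change l ≫ A.ι ≫ V₁.hom = _
    rw [← Category.assoc]
    exact (congrArg (· ≫ V₁.hom) hl).trans (CategoryTheory.Over.w v₁))
  have hv : Φ.fiber.map (EtFound.restrictEtaleHom V₁ A) v = v₁ := CategoryTheory.Over.OverMorphism.ext hl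
  have hφ : φ ≫ Φ.toPresheafFiber V v F.obj = g := by
    rw [← hφ₁, ← hv, ← Φ.toPresheafFiber_w (EtFound.restrictEtaleHom V₁ A) v F.obj, Category.assoc]
  have hVA : ∀ a : V.left, V.hom.base a ∈ A₀ := fun a => by
    have h := hAA₀ a.2
    change (A.ι ≫ V₁.hom).base a ∈ A₀
    rw [Scheme.Hom.comp_apply]
    exact h
  let Good : Set V.left := {q | ∀ (Ω : Type u) [Field Ω] [IsAlgClosed Ω] (ξ : Spec (CommRingCat.of Ω) ⟶ X)
    (z : (Scheme.pointSmallEtale ξ).fiber.obj V),
    (z.left : Spec (CommRingCat.of Ω) ⟶ V.left).base (default : Spec (CommRingCat.of Ω)) = q →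
      Function.Bijective (φ ≫ (Scheme.pointSmallEtale ξ).toPresheafFiber V z F.obj)}
  -- behaviour after pulling back to a member of the cover
  have local_ : ∀ (j : ι) (Ω : Type u) [Field Ω] [IsAlgClosed Ω] (η : Spec (CommRingCat.of Ω) ⟶ Y j)
      (t : (Scheme.pointSmallEtale η).fiber.obj ((EtCoh.bc (p j)).obj V)),
      ∃ O : Scheme.Opens ((EtCoh.bc (p j)).obj V).left,
        (t.left : Spec (CommRingCat.of Ω) ⟶ _).base (default : Spec (CommRingCat.of Ω)) ∈ O ∧
        (Function.Bijective (φ ≫ (Scheme.pointSmallEtale (η ≫ p j)).toPresheafFiber V (EtFound.bcFiberEquiv (p j) η V t) F.obj) →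
          ∀ y ∈ O, (pullback.fst V.hom (p j)).base y ∈ Good) := by
    intro j Ω _ _ η t
    obtain ⟨c⟩ := htop j ((EtCoh.bc (p j)).obj V)
    obtain ⟨O, hO, hO'⟩ := exists_uniform _ (hψ j) c (φ ≫ ((pullPushMod (Λ := Λ) (p j)).unit.app F).hom.app (op V)) η t
    refine ⟨O, hO, fun hb y hy Ω' _ _ ξ z hz => ?_⟩
    have : WeaklyEtale (pullback.fst V.hom (p j)) := inferInstance
    obtain ⟨l, hl, hly⟩ := exists_fiber_through (pullback.fst V.hom (p j)) z.left y hz.symm
    let η' := l ≫ pullback.snd V.hom (p j)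
    have hξ : η' ≫ p j = ξ := by
      rw [Category.assoc, ← pullback.condition, ← Category.assoc, hl]
      exact CategoryTheory.Over.w z
    subst hξ
    let t' : (Scheme.pointSmallEtale η').fiber.obj ((EtCoh.bc (p j)).obj V) := CategoryTheory.Over.homMk l rfl
    have ht' : EtFound.bcFiberEquiv (p j) η' V t' = z := CategoryTheory.Over.OverMorphism.ext hl
    rw [← ht']
    exact ((bijective_pull_iff (p j) F φ η' t').trans ((hO' Ω' η' t' (hly.symm ▸ hy)).trans
      (bijective_pull_iff (p j) F φ η t).symm)).2 hb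
  have hopen : IsOpen Good := by
    let S : ι → Scheme.{u} := fun j => pullback V.hom (p j)
    let q : ∀ j, S j ⟶ V.left := fun j => pullback.fst V.hom (p j)
    have : Flat (Sigma.desc q) := IsZariskiLocalAtSource.sigmaDesc fun j => inferInstanceAs (Flat (pullback.fst V.hom (p j)))
    have : Surjective (Sigma.desc q) := ⟨fun a => by
      obtain ⟨j, b, hb⟩ := hp (V.hom.base a) (hVA a)
      obtain ⟨c, hc, -⟩ := Scheme.Pullback.exists_preimage_pullback (f := V.hom) (g := p j) a b hb.symm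
      exact ⟨(Sigma.ι S j).base c, by rw [← Scheme.Hom.comp_apply, Sigma.ι_desc]; exact hc⟩⟩
    have : ∀ j, IsAffine (S j) := fun j => isAffine_pullback_of_range (show V.left ⟶ X from V.hom) (p j) A₀ hA₀
      (Set.range_subset_iff.2 hVA) (hpA j)
    have : QuasiCompact (Sigma.desc q) := inferInstance
    rw [← (Flat.isQuotientMap_of_surjective (Sigma.desc q)).isOpen_preimage, isOpen_iff_forall_mem_open]
    intro a ha
    obtain ⟨⟨j, b⟩, hb⟩ := (sigmaMk S).surjective a
    have hab : (Sigma.ι S j).base b = a := (sigmaMk_mk S j b).symm.trans hb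
    subst hab
    have hq : ∀ b, (Sigma.desc q).base ((Sigma.ι S j).base b) = (q j).base b := fun b => by
      rw [← Scheme.Hom.comp_apply, Sigma.ι_desc]
    obtain ⟨Ω, _, _, η', t, ht⟩ := EtFound.exists_algClosed_point ((EtCoh.bc (p j)).obj V) b
    obtain ⟨O, hO, hO'⟩ := local_ j Ω η' t
    let O₁ : Set (S j) := O.carrier
    refine ⟨(Sigma.ι S j).base '' O₁, ?_, (Sigma.ι S j).isOpenEmbedding.isOpenMap _ O.2, ⟨b, ht ▸ hO, rfl⟩⟩
    rintro _ ⟨y, hy, rfl⟩
    show _ ∈ Good
    rw [hq]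
    refine hO' (ha Ω _ (EtFound.bcFiberEquiv (p j) η' V t) ?_) y hy
    rw [hq, ← ht]
    exact Scheme.Hom.comp_apply _ _ _
  have hvG : (v.left : Spec (CommRingCat.of Ω) ⟶ V.left).base (default : Spec (CommRingCat.of Ω)) ∈ Good := by
    let t := (EtFound.bcFiberEquiv (p i) η V).symm v
    obtain ⟨O, hO, hO'⟩ := local_ i Ω η t
    have h2 := hO' (by rw [Equiv.apply_symm_apply]; exact hφ ▸ hg) _ hO
    have : (pullback.fst V.hom (p i)).base ((t.left : Spec (CommRingCat.of Ω) ⟶ _).base (default : Spec (CommRingCat.of Ω))) =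
        (v.left : Spec (CommRingCat.of Ω) ⟶ V.left).base (default : Spec (CommRingCat.of Ω)) :=
      (Scheme.Hom.comp_apply _ _ _).symm.trans
        (congrArg (fun k : Spec (CommRingCat.of Ω) ⟶ V.left => k.base (default : Spec (CommRingCat.of Ω)))
          (congrArg (fun k => k.left) ((EtFound.bcFiberEquiv (p i) η V).apply_symm_apply v)))
    rwa [← this]
  let Og : V.left.Opens := ⟨Good, hopen⟩
  refine ⟨i, EtFound.restrictEtale V Og, ⟨_, hvG⟩, φ ≫ F.obj.map (EtFound.restrictEtaleHom V Og).op, ?_, ?_⟩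
  · change V.hom.base ((v.left : Spec (CommRingCat.of Ω) ⟶ V.left).base (default : Spec (CommRingCat.of Ω))) = x
    rw [← hy, ← hη]
    exact ((Scheme.Hom.comp_apply _ _ _).symm.trans (congrArg (fun k : Spec (CommRingCat.of Ω) ⟶ X => k.base (default : Spec (CommRingCat.of Ω)))
      (CategoryTheory.Over.w v))).trans (Scheme.Hom.comp_apply _ _ _)
  · intro Ω' _ _ ξ z
    rw [Category.assoc, (Scheme.pointSmallEtale ξ).toPresheafFiber_w]
    refine SetLike.mem_coe.1 ((z.left : Spec (CommRingCat.of Ω') ⟶ Og.toScheme).base (default : Spec (CommRingCat.of Ω'))).2 Ω' ξ _ ?_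
    exact Scheme.Hom.comp_apply _ _ _

end Groth.Agent.ProLoc71
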