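import Groth.Agent.EtModLC71.RecollMod
import Groth.Agent.EtModLC71.EpsClosed
import Groth.Agent.ProEtLib.Basic
import Mathlib.CategoryTheory.Sites.PreservesLocallyBijective
import Mathlib.CategoryTheory.Sites.ConstantSheaf

/-!
# Constancy over an object of the pro-etale site and restriction to it
-/

universe u

open CategoryTheory CategoryTheory.Limits AlgebraicGeometry Opposite

namespace Groth.Agent.ProLoc71

open EtModLC71

set_option backward.isDefEq.respectTransparency.types false

variable {X Y : Scheme.{u}}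

/-- coverings lift along composition with a weakly etale morphism -/
theorem isCocontinuous_compP (j : Y ⟶ X) [WeaklyEtale j] :
    (ProEtS.compP j).IsCocontinuous (Scheme.ProEt.topology Y) (Scheme.ProEt.topology X) := by
  constructor
  intro V S hS
  rw [ProEtLib.mem_topology_iff] at hS ⊢
  obtain ⟨T, hT, hle⟩ := hS
  obtain ⟨ι, W, g, rfl⟩ := T.exists_eq_ofArrows
  have hw : ∀ i, WeaklyEtale ((g i).left ≫ V.hom) := fun i => by
    exact MorphismProperty.comp_mem (W := @WeaklyEtale) _ _ (ProEtLib.weaklyEtale_left (g i)) V.prop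
  let W' : ι → Y.ProEt := fun i => @Scheme.ProEt.mk Y _ ((g i).left ≫ V.hom) (hw i)
  let g' : ∀ i, W' i ⟶ V := fun i => MorphismProperty.Over.homMk (g i).left
  refine ⟨Presieve.ofArrows W' g', ?_, ?_⟩
  · rw [ProEtLib.ofArrows_mem_precoverage_iff] at hT ⊢
    exact hT
  · rintro _ _ ⟨i⟩
    let a : (ProEtS.compP j).obj (W' i) ⟶ W i := MorphismProperty.Over.homMk (𝟙 (W i).left) (by
      refine (Category.id_comp _).trans ?_
      refine (MorphismProperty.Over.w (g i)).symm.trans ?_
      exact (Category.assoc _ _ _).symm)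
    have : a ≫ g i = (ProEtS.compP j).map (g' i) := MorphismProperty.Over.Hom.ext (Category.id_comp _)
    show S ((ProEtS.compP j).map (g' i))
    rw [← this]
    exact S.downward_closed (hle _ _ (Presieve.ofArrows.mk i)) a

/-- coverings push forward along composition with a weakly etale morphism -/
theorem coverPreserving_compP (j : Y ⟶ X) [WeaklyEtale j] :
    CoverPreserving (Scheme.ProEt.topology Y) (Scheme.ProEt.topology X) (ProEtS.compP j) := by
  constructor
  intro V S hS
  rw [ProEtLib.mem_topology_iff] at hS ⊢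
  obtain ⟨T, hT, hle⟩ := hS
  obtain ⟨ι, W, g, rfl⟩ := T.exists_eq_ofArrows
  refine ⟨Presieve.ofArrows _ fun i => (ProEtS.compP j).map (g i), ?_, ?_⟩
  · rw [ProEtLib.ofArrows_mem_precoverage_iff] at hT ⊢
    exact hT
  · rintro _ _ ⟨i⟩
    exact Sieve.image_mem_functorPushforward _ _ (hle _ _ (Presieve.ofArrows.mk i))

variable {U : X.ProEt} (g : Y ⟶ U.left) [WeaklyEtale (g ≫ U.hom)]

/-- schemes weakly etale over `Y` as objects over `U` -/
noncomputable def toOver : Y.ProEt ⥤ Over U where
  obj T := Over.mk (MorphismProperty.Over.homMk (T.hom ≫ g) (Category.assoc _ _ _) : (ProEtS.compP (g ≫ U.hom)).obj T ⟶ U)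
  map {T T'} a := Over.homMk ((ProEtS.compP (g ≫ U.hom)).map a) (MorphismProperty.Over.Hom.ext (by
    exact (Category.assoc _ _ _).symm.trans (congrArg (· ≫ g) (MorphismProperty.Over.w a))))
  map_id T := Over.OverMorphism.ext ((ProEtS.compP (g ≫ U.hom)).map_id T)
  map_comp a b := Over.OverMorphism.ext ((ProEtS.compP (g ≫ U.hom)).map_comp a b)

theorem isCocontinuous_toOver :
    (toOver g).IsCocontinuous (Scheme.ProEt.topology Y) ((Scheme.ProEt.topology X).over U) := by
  constructor
  intro T S hS
  rw [GrothendieckTopology.mem_over_iff] at hS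
  refine GrothendieckTopology.superset_covering _ ?_
    ((isCocontinuous_compP (g ≫ U.hom)).cover_lift hS)
  intro T' a ha
  rw [Sieve.functorPullback_apply, Presieve.functorPullback_mem] at ha
  replace ha := (Sieve.overEquiv_iff (Y := (toOver g).obj T) S ((ProEtS.compP (g ≫ U.hom)).map a)).1 ha
  let k : (toOver g).obj T' ⟶ Over.mk ((ProEtS.compP (g ≫ U.hom)).map a ≫ ((toOver g).obj T).hom) :=
    Over.homMk (𝟙 _) ((Category.id_comp _).trans (Over.w ((toOver g).map a)))
  have : k ≫ (Over.homMk (show (Over.mk ((ProEtS.compP (g ≫ U.hom)).map a ≫ ((toOver g).obj T).hom)).left ⟶ ((toOver g).obj T).left from (ProEtS.compP (g ≫ U.hom)).map a) : _ ⟶ (toOver g).obj T) = (toOver g).map a :=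
    Over.OverMorphism.ext (Category.id_comp _)
  show S ((toOver g).map a)
  rw [← this]
  exact S.downward_closed ha k

variable {Λ : Type (u + 1)} [CommRing Λ]

variable (M : ModuleCat.{u + 1} Λ) (G : EtModW.ModP Λ X)

/-- constancy over `U` restricts -/
theorem nonempty_restr_iso [ProEtS.JPCont (g ≫ U.hom)]
    (h : Nonempty (G.over U ≅ (constantSheaf ((Scheme.ProEt.topology X).over U) (ModuleCat.{u + 1} Λ)).obj M)) :
    Nonempty ((RecollMod.restrModP (Λ := Λ) (g ≫ U.hom)).obj G ≅
      (constantSheaf (Scheme.ProEt.topology Y) (ModuleCat.{u + 1} Λ)).obj M) := by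
  obtain ⟨e⟩ := h
  let J := (Scheme.ProEt.topology X).over U
  let η : (Functor.const (Over U)ᵒᵖ).obj M ⟶ (G.over U).obj := toSheafify J _ ≫ e.inv.hom
  have : IsIso e.inv.hom := inferInstanceAs (IsIso ((sheafToPresheaf _ _).map e.inv))
  have hW : J.W η := MorphismProperty.RespectsIso.postcomp _ e.inv.hom _ (J.W_toSheafify _)
  obtain ⟨hi, hs⟩ := (J.W_iff_isLocallyBijective η).1 hW
  have := isCocontinuous_toOver g
  let K := Scheme.ProEt.topology Y
  let p : (Functor.const Y.ProEtᵒᵖ).obj M ⟶ ((RecollMod.restrModP (Λ := Λ) (g ≫ U.hom)).obj G).obj :=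
    Functor.whiskerLeft (toOver g).op η
  have hi' : Presheaf.IsLocallyInjective K p := Presheaf.isLocallyInjective_whisker K J (toOver g) η
  have hs' : Presheaf.IsLocallySurjective K p := Presheaf.isLocallySurjective_whisker K J (toOver g) η
  have : IsIso ((presheafToSheaf K (ModuleCat.{u + 1} Λ)).map p) := by
    have hW' : K.W p := (K.W_iff_isLocallyBijective p).2 ⟨hi', hs'⟩
    rwa [K.W_iff] at hW'
  exact ⟨(asIso ((presheafToSheaf K (ModuleCat.{u + 1} Λ)).map p ≫
    (sheafificationAdjunction K (ModuleCat.{u + 1} Λ)).counit.app ((RecollMod.restrModP (Λ := Λ) (g ≫ U.hom)).obj G))).symm⟩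

/-- constancy over `U` from constancy of the restriction -/
theorem nonempty_over_iso [WeaklyEtale U.hom] [ProEtS.JPCont U.hom]
    (h : Nonempty ((RecollMod.restrModP (Λ := Λ) U.hom).obj G ≅
      (constantSheaf (Scheme.ProEt.topology U.left) (ModuleCat.{u + 1} Λ)).obj M)) :
    Nonempty (G.over U ≅ (constantSheaf ((Scheme.ProEt.topology X).over U) (ModuleCat.{u + 1} Λ)).obj M) := by
  obtain ⟨e⟩ := h
  let K := Scheme.ProEt.topology U.left
  let p : (Functor.const U.left.ProEtᵒᵖ).obj M ⟶ ((RecollMod.restrModP (Λ := Λ) U.hom).obj G).obj :=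
    toSheafify K _ ≫ e.inv.hom
  have : IsIso e.inv.hom := inferInstanceAs (IsIso ((sheafToPresheaf _ _).map e.inv))
  have hW : K.W p := MorphismProperty.RespectsIso.postcomp _ e.inv.hom _ (K.W_toSheafify _)
  obtain ⟨hi, hs⟩ := (K.W_iff_isLocallyBijective p).1 hW
  let top : U.left.ProEt := Scheme.ProEt.mk (𝟙 U.left)
  let t : U ⟶ (ProEtS.compP U.hom).obj top := MorphismProperty.Over.homMk (𝟙 U.left) (by
    exact (Category.id_comp _).trans (Category.id_comp _))
  let φ : M ⟶ G.obj.obj (op U) := p.app (op top) ≫ G.obj.map t.op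
  let η : (Functor.const (Over U)ᵒᵖ).obj M ⟶ (G.over U).obj :=
    { app := fun W => φ ≫ G.obj.map W.unop.hom.op
      naturality := fun W W' a => by
        refine (Category.id_comp _).trans ?_
        show φ ≫ G.obj.map W'.unop.hom.op = (φ ≫ G.obj.map W.unop.hom.op) ≫ G.obj.map a.unop.left.op
        refine Eq.trans (congrArg (φ ≫ ·) ?_) (Category.assoc _ _ _).symm
        refine (congrArg (fun k => G.obj.map k.op) (Over.w a.unop).symm).trans ?_
        rw [op_comp, Functor.map_comp] }
  let J := (Scheme.ProEt.topology X).over U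
  have hp : ∀ (W : Over U) [WeaklyEtale W.hom.left], ∃ (V : U.left.ProEt) (b : W.left ≅ (ProEtS.compP U.hom).obj V),
      η.app (op W) = p.app (op V) ≫ G.obj.map b.hom.op := by
    intro W _
    let V : U.left.ProEt := Scheme.ProEt.mk W.hom.left
    let b : W.left ≅ (ProEtS.compP U.hom).obj V :=
      MorphismProperty.Over.isoMk (Iso.refl _) ((Category.id_comp _).trans (MorphismProperty.Over.w W.hom))
    refine ⟨V, b, ?_⟩
    let a : V ⟶ top := MorphismProperty.Over.homMk W.hom.left (Category.comp_id _)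
    have hn : p.app (op V) = p.app (op top) ≫ G.obj.map ((ProEtS.compP U.hom).map a).op :=
      (Category.id_comp _).symm.trans (p.naturality a.op)
    show (p.app (op top) ≫ G.obj.map t.op) ≫ G.obj.map W.hom.op = _
    rw [hn]
    refine (Category.assoc _ _ _).trans (Eq.trans (congrArg (p.app (op top) ≫ ·) ?_) (Category.assoc _ _ _).symm)
    refine (G.obj.map_comp _ _).symm.trans (Eq.trans ?_ (G.obj.map_comp _ _))
    refine congrArg (fun k => G.obj.map k) (congrArg Quiver.Hom.op ?_)
    exact MorphismProperty.Over.Hom.ext ((Category.comp_id _).trans (Category.id_comp _).symm)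
  have lift : ∀ (W : Over U) (R : Sieve W), (∀ (V : U.left.ProEt) (b : W.left ≅ (ProEtS.compP U.hom).obj V),
      η.app (op W) = p.app (op V) ≫ G.obj.map b.hom.op →
        ∃ S ∈ K V, ∀ ⦃V'⦄ (f : V' ⟶ V), S f → (Sieve.overEquiv W R) ((ProEtS.compP U.hom).map f ≫ b.inv)) →
      R ∈ J W := by
    intro W R hR
    have : WeaklyEtale W.hom.left := ProEtLib.weaklyEtale_left W.hom
    obtain ⟨V, b, hη⟩ := hp W
    obtain ⟨S, hS, hS'⟩ := hR V b hη
    rw [GrothendieckTopology.mem_over_iff, ← (Scheme.ProEt.topology X).pullback_mem_iff_of_isIso (i := b.inv)]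
    refine GrothendieckTopology.superset_covering _ ?_ ((coverPreserving_compP U.hom).cover_preserve hS)
    rintro Z f ⟨V', f', c, hf', rfl⟩
    show (Sieve.overEquiv W R) ((c ≫ (ProEtS.compP U.hom).map f') ≫ b.inv)
    rw [Category.assoc]
    exact (Sieve.overEquiv W R).downward_closed (hS' f' hf') c
  have hW' : J.W η := by
    refine (J.W_iff_isLocallyBijective η).2 ⟨⟨fun {W} m m' e => lift W.unop _ fun V b hη => ?_⟩,
      ⟨fun {W} s => lift W _ fun V b hη => ?_⟩⟩
    · have e' : p.app (op V) m = p.app (op V) m' := by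
        have : Function.Injective (G.obj.map b.hom.op) := (ConcreteCategory.bijective_of_isIso _).1
        refine this ?_
        refine ((ConcreteCategory.comp_apply (p.app (op V)) (G.obj.map b.hom.op) m).symm.trans ?_).trans
          (ConcreteCategory.comp_apply (p.app (op V)) (G.obj.map b.hom.op) m')
        exact ((congrArg (fun k : M ⟶ _ => k m) hη).symm.trans e).trans (congrArg (fun k : M ⟶ _ => k m') hη)
      refine ⟨_, Presheaf.equalizerSieve_mem K p _ _ e', fun V' f hf => ?_⟩
      rw [Sieve.overEquiv_iff]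
      exact hf
    · refine ⟨_, Presheaf.imageSieve_mem K p (U := op V) (G.obj.map b.inv.op s), fun V' f hf => ?_⟩
      rw [Sieve.overEquiv_iff]
      obtain ⟨m, hm⟩ := hf
      refine ⟨m, ?_⟩
      show (φ ≫ G.obj.map (((ProEtS.compP U.hom).map f ≫ b.inv) ≫ W.hom).op) m =
        G.obj.map ((ProEtS.compP U.hom).map f ≫ b.inv).op s
      have h1 : p.app (op V') = η.app (op W) ≫ G.obj.map ((ProEtS.compP U.hom).map f ≫ b.inv).op := by
        rw [hη]
        refine ((Category.id_comp _).symm.trans (p.naturality f.op)).trans ?_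
        refine Eq.trans (congrArg (p.app (op V) ≫ ·) ?_) (Category.assoc _ _ _).symm
        refine (congrArg (fun k => G.obj.map k) (congrArg Quiver.Hom.op ?_)).trans (G.obj.map_comp _ _)
        exact ((Category.assoc _ _ _).trans ((congrArg _ b.inv_hom_id).trans (Category.comp_id _))).symm
      refine Eq.trans (Eq.trans (congrArg (fun k : M ⟶ _ => k m) ?_) hm) ?_
      · rw [h1, op_comp, Functor.map_comp, ← Category.assoc]
        rfl
      · rw [op_comp, Functor.map_comp, ConcreteCategory.comp_apply]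
        rfl
  have : IsIso ((presheafToSheaf J (ModuleCat.{u + 1} Λ)).map η) := by rwa [J.W_iff] at hW'
  exact ⟨(asIso ((presheafToSheaf J (ModuleCat.{u + 1} Λ)).map η ≫
    (sheafificationAdjunction J (ModuleCat.{u + 1} Λ)).counit.app (G.over U))).symm⟩

end Groth.Agent.ProLoc71
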