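import Groth.Agent.ProLoc71.Descent
import Groth.Agent.ProLoc71.EtDescent
import Groth.Agent.ProLoc71.Transport
import Groth.Prelude.Def_EtCore

/-!
# Constant sheaves: sections, stalks, comparison of the two sites
-/

universe u

open CategoryTheory CategoryTheory.Limits AlgebraicGeometry Opposite

namespace Groth.Agent.ProLoc71

open EtModLC71 EtModLC71.Classical

set_option backward.isDefEq.respectTransparency.types false
set_option linter.unusedSectionVars false

variable {Λ : Type (u + 1)} [CommRing Λ]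

/-- constant sheaves give constant families on the whole scheme -/
theorem exists_constBy_top {Y : Scheme.{u}} {H : EtModW.Mod Λ Y} {M : ModuleCat.{u + 1} Λ}
    (e : H ≅ (constantSheaf Y.smallEtaleTopology (ModuleCat.{u + 1} Λ)).obj M) :
    ∃ ψ : M ⟶ H.obj.obj (op (EtCoh.top Y)), EtFound.ConstBy H ψ := by
  let P := (Functor.const Y.Etaleᵒᵖ).obj M
  refine ⟨(toSheafify Y.smallEtaleTopology P).app (op (EtCoh.top Y)) ≫ e.inv.hom.app (op (EtCoh.top Y)),
    fun Ω _ _ ξ z => ?_⟩
  let Φ := Scheme.pointSmallEtale ξ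
  have h1 := EtFound.toSheafify_const_germ_bijective ξ (ModuleCat.{u + 1} Λ) M (EtCoh.top Y) z
  have : IsIso e.inv.hom := inferInstanceAs (IsIso ((sheafToPresheaf _ _).map e.inv))
  have h2 : Function.Bijective (Φ.presheafFiber.map e.inv.hom) :=
    ConcreteCategory.bijective_of_isIso (Φ.presheafFiber.map e.inv.hom)
  refine Eq.mp (congrArg Function.Bijective (funext fun m => ?_)) (h2.comp h1)
  exact Φ.toPresheafFiber_naturality_apply e.inv.hom _ z _

/-- constant families on the whole scheme give constant sheaves -/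
theorem nonempty_iso_of_constBy_top {Y : Scheme.{u}} {H : EtModW.Mod Λ Y} {M : ModuleCat.{u + 1} Λ}
    {ψ : M ⟶ H.obj.obj (op (EtCoh.top Y))} (h : EtFound.ConstBy H ψ) :
    Nonempty (H ≅ (constantSheaf Y.smallEtaleTopology (ModuleCat.{u + 1} Λ)).obj M) := by
  let J := Y.smallEtaleTopology
  let t := EtCore.topIsTerminal Y
  let η : (Functor.const Y.Etaleᵒᵖ).obj M ⟶ H.obj :=
    { app := fun T => ψ ≫ H.obj.map (t.from T.unop).op
      naturality := fun T T' a => by
        refine (Category.id_comp _).trans ?_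
        show ψ ≫ H.obj.map (t.from T'.unop).op = (ψ ≫ H.obj.map (t.from T.unop).op) ≫ H.obj.map a
        rw [Category.assoc, ← Functor.map_comp]
        exact congrArg (fun k => ψ ≫ H.obj.map k) (Quiver.Hom.unop_inj (t.hom_ext _ _)) }
  let θ : (constantSheaf J (ModuleCat.{u + 1} Λ)).obj M ⟶ H := ⟨sheafifyLift J η H.property⟩
  have : IsIso θ := (isIso_iff_stalks θ).2 fun Ω₀ _ _ ξ₀ => by
    let Ω := AlgebraicClosure Ω₀
    let l : Spec (CommRingCat.of Ω) ⟶ Spec (CommRingCat.of Ω₀) := Spec.map (CommRingCat.ofHom (algebraMap Ω₀ Ω))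
    refine (NatIso.isIso_map_iff (EtFound.stalkExtIso (ModuleCat.{u + 1} Λ) ξ₀ l) θ).2 ?_
    let ξ := l ≫ ξ₀
    show IsIso ((EtModW.stalk Λ ξ).map θ)
    let Φ := Scheme.pointSmallEtale ξ
    let z : Φ.fiber.obj (EtCoh.top Y) := CategoryTheory.Over.homMk ξ (Category.comp_id _)
    have h1 := EtFound.toSheafify_const_germ_bijective ξ (ModuleCat.{u + 1} Λ) M (EtCoh.top Y) z
    have h2 := h Ω ξ z
    have e : ∀ m, Φ.presheafFiber.map θ.hom (Φ.toPresheafFiber (EtCoh.top Y) z (sheafify J ((Functor.const Y.Etaleᵒᵖ).obj M))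
        ((toSheafify J ((Functor.const Y.Etaleᵒᵖ).obj M)).app (op (EtCoh.top Y)) m)) =
        (ψ ≫ Φ.toPresheafFiber (EtCoh.top Y) z H.obj) m := fun m => by
      refine (Φ.toPresheafFiber_naturality_apply (sheafifyLift J η H.property) (EtCoh.top Y) z
        ((toSheafify J ((Functor.const Y.Etaleᵒᵖ).obj M)).app (op (EtCoh.top Y)) m)).trans ?_
      refine (congrArg (Φ.toPresheafFiber (EtCoh.top Y) z H.obj) (ConcreteCategory.congr_hom
        (congrArg (fun k : (Functor.const Y.Etaleᵒᵖ).obj M ⟶ H.obj => k.app (op (EtCoh.top Y))) (toSheafify_sheafifyLift J η H.property)) m)).trans ?_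
      show Φ.toPresheafFiber _ z H.obj ((ψ ≫ H.obj.map (t.from (EtCoh.top Y)).op) m) = _
      rw [t.hom_ext (t.from (EtCoh.top Y)) (𝟙 _), op_id, CategoryTheory.Functor.map_id, Category.comp_id]
      rfl
    refine (ConcreteCategory.isIso_iff_bijective _).2 ?_
    have h3 : Function.Bijective (fun m => Φ.presheafFiber.map θ.hom (Φ.toPresheafFiber (EtCoh.top Y) z (sheafify J ((Functor.const Y.Etaleᵒᵖ).obj M))
        ((toSheafify J ((Functor.const Y.Etaleᵒᵖ).obj M)).app (op (EtCoh.top Y)) m))) := by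
      rw [show (fun m => Φ.presheafFiber.map θ.hom (Φ.toPresheafFiber (EtCoh.top Y) z (sheafify J ((Functor.const Y.Etaleᵒᵖ).obj M))
        ((toSheafify J ((Functor.const Y.Etaleᵒᵖ).obj M)).app (op (EtCoh.top Y)) m))) = _ from funext e]
      exact h2
    exact (Function.Bijective.of_comp_iff _ h1).1 h3
  exact ⟨(asIso θ).symm⟩

variable (Λ) in
/-- the pullback of a constant sheaf is constant -/
noncomputable def constIsoMod (X : Scheme.{u}) [ProEtS.EpsCont X] :
    constantSheaf X.smallEtaleTopology (ModuleCat.{u + 1} Λ) ⋙ EtModW.epsPullMod Λ X ≅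
      constantSheaf (Scheme.ProEt.topology X) (ModuleCat.{u + 1} Λ) :=
  have hT' : IsTerminal ((ProEtS.eps X).obj (EtCoh.top X)) := IsTerminal.ofUniqueHom
    (fun W => MorphismProperty.Over.homMk W.hom (Category.comp_id _))
    fun W m => MorphismProperty.Over.Hom.ext ((Category.comp_id m.left).symm.trans (MorphismProperty.Over.w m))
  Adjunction.leftAdjointUniq
    ((constantSheafAdj X.smallEtaleTopology (ModuleCat.{u + 1} Λ) (EtCore.topIsTerminal X)).comp (epsAdjMod (X := X)))
    (constantSheafAdj (Scheme.ProEt.topology X) (ModuleCat.{u + 1} Λ) hT')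

variable [∀ T : Scheme.{u}, ProEtS.EpsCont T] [hP : ∀ (A B : Scheme.{u}) (f : A ⟶ B), ProEtS.PCont f]

/-- coming from the etale site is local for open covers -/
theorem isCl_of_openCover {X : Scheme.{u}} (F : EtModW.ModP Λ X) {κ : Type u} (W : κ → X.Opens)
    (hW : ∀ x, ∃ k, x ∈ W k) (h : ∀ k, IsCl ((pullModP (Λ := Λ) (W k).ι).obj F)) : IsCl F := by
  let c := (epsAdjMod (Λ := Λ) (X := X)).counit.app F
  have key : ∀ V : X.ProEt, (∃ k, Set.range V.hom.base ⊆ (W k : Set X)) →
      Function.Bijective (c.hom.app (op V)) := by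
    rintro V ⟨k, hV⟩
    have : ProEtS.JPCont (W k).ι := jpCont _
    have h2 := isIso_restr_counit (W k) F ((h k).of_iso ((RecollMod.restrIsoPull (Λ := Λ) (W k).ι).app F).symm)
    obtain ⟨V₀, ⟨e⟩⟩ := exists_compP_iso (W k).ι (hV.trans (W k).range_ι.ge)
    have h3 : IsIso (c.hom.app (op ((ProEtS.compP (W k).ι).obj V₀))) :=
      inferInstanceAs (IsIso (((sheafToPresheaf _ _).map ((RecollMod.restrModP (Λ := Λ) (W k).ι).map c)).app (op V₀)))
    have : IsIso (c.hom.app (op V)) := (NatTrans.isIso_app_iff_of_iso c.hom e.op).2 h3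
    exact ConcreteCategory.bijective_of_isIso _
  have cov : ∀ V : X.ProEt, (∀ x : V.left, ∃ k, x ∈ V.hom ⁻¹ᵁ W k) ∧
      ∀ k, ∃ k', Set.range (ProEtLib.opObj V (V.hom ⁻¹ᵁ W k)).hom.base ⊆ (W k' : Set X) :=
    fun V => ⟨fun x => hW (V.hom.base x), fun k => ⟨k, by rintro _ ⟨y, rfl⟩; exact y.2⟩⟩
  have h1 : Sheaf.IsLocallyInjective c := ⟨fun {V} s t hst => by
    refine GrothendieckTopology.superset_covering _ ?_
      (ProEtLib.opens_mem_topology V.unop (fun k => V.unop.hom ⁻¹ᵁ W k) (cov V.unop).1)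
    rintro Y f ⟨Z, a, _, ⟨k⟩, rfl⟩
    refine (Presheaf.equalizerSieve s t).downward_closed ?_ a
    refine (key _ ((cov V.unop).2 k)).1 ?_
    rw [NatTrans.naturality_apply, NatTrans.naturality_apply]
    exact congrArg _ hst⟩
  have h2 : Sheaf.IsLocallySurjective c := ⟨fun {V} s => by
    refine GrothendieckTopology.superset_covering _ ?_
      (ProEtLib.opens_mem_topology V (fun k => V.hom ⁻¹ᵁ W k) (cov V).1)
    rintro Y f ⟨Z, a, _, ⟨k⟩, rfl⟩
    refine (Presheaf.imageSieve c.hom s).downward_closed ?_ a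
    exact (key _ ((cov V).2 k)).2 _⟩
  have := (Sheaf.isLocallyBijective_iff_isIso c).1 ⟨h1, h2⟩
  exact ⟨_, ⟨asIso c⟩⟩

end Groth.Agent.ProLoc71
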