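import Groth.Agent.ProLoc71.Push
import Groth.Agent.EtModLC71.ClassicalLocal
import Mathlib.CategoryTheory.Abelian.Basic

/-!
# Coming from the etale site descends along affine pro-etale covers
-/

universe u

open CategoryTheory CategoryTheory.Limits AlgebraicGeometry Opposite

namespace Groth.Agent.ProLoc71

open EtModLC71 EtModLC71.Classical

set_option backward.isDefEq.respectTransparency.types false
set_option linter.unusedSectionVars false

theorem isIso_of_adj {A B : Type*} [Category A] [Category B] {L : A ⥤ B} {R : B ⥤ A} (adj : L ⊣ R)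
    [∀ a, IsIso (adj.unit.app a)] {S T : B} (f : S ⟶ T) (a b : A) (ia : L.obj a ≅ S) (ib : L.obj b ≅ T)
    (h : IsIso (R.map f)) : IsIso f := by
  have hc : ∀ (a : A) (S : B), (L.obj a ≅ S) → IsIso (adj.counit.app S) := fun a S i => by
    have : IsIso (L.map (adj.unit.app a) ≫ adj.counit.app (L.obj a)) := by
      exact (congrArg IsIso (adj.left_triangle_components a)).mpr (IsIso.id _)
    have : IsIso (adj.counit.app (L.obj a)) := IsIso.of_isIso_comp_left (L.map (adj.unit.app a)) _
    exact (NatTrans.isIso_app_iff_of_iso adj.counit i).1 this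
  have := hc a S ia
  have := hc b T ib
  have e := adj.counit.naturality f
  have : IsIso (adj.counit.app S ≫ f) := by
    refine (congrArg IsIso e.symm).mpr ?_
    exact IsIso.comp_isIso' (L.map_isIso (R.map f)) (hc b T ib)
  exact IsIso.of_isIso_comp_left (adj.counit.app S) f

variable {Λ : Type (u + 1)} [CommRing Λ] [∀ T : Scheme.{u}, ProEtS.EpsCont T]
  [hP : ∀ (A B : Scheme.{u}) (f : A ⟶ B), ProEtS.PCont f]

/-- direct images along maps of affine schemes preserve coming from the etale site -/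
theorem isCl_push {W X : Scheme.{u}} [IsAffine W] [IsAffine X] (π : W ⟶ X) {F : EtModW.ModP Λ W} (h : IsCl F) :
    IsCl ((pushModP (Λ := Λ) π).obj F) := by
  obtain ⟨E, ⟨i⟩⟩ := h
  have := ProEtLib.repFlat_eps (X := X)
  have := ProEtLib.repFlat_eps (X := W)
  let u' := uSheaf W.smallEtaleTopology Λ
  let uX := uSheaf (Scheme.ProEt.topology X) Λ
  let G := (pushModP (Λ := Λ) π).obj F
  have := isIso_epsForget (X := W) (Λ := Λ) E
  let j : img π (u'.obj E) ≅ uX.obj G :=
    (ProEtS.pushP π).mapIso ((ProEtLib.epsPullIso (X := W)).symm.app (u'.obj E) ≪≫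
      asIso (pullForgetHom (ProEtS.eps W) W.smallEtaleTopology (Scheme.ProEt.topology W) Λ E) ≪≫
      (uSheaf (Scheme.ProEt.topology W) Λ).mapIso i)
  have := isIso_counit_img π (u'.obj E)
  let k : (ProEtS.epsPull X).obj ((ProEtS.epsPush X).obj (img π (u'.obj E))) ≅ uX.obj G :=
    (ProEtLib.epsPullIso (X := X)).app _ ≪≫ asIso ((adC (X := X)).counit.app (img π (u'.obj E))) ≪≫ j
  let c := (epsAdjMod (Λ := Λ) (X := X)).counit.app G
  have := isIso_epsForget (X := X) (Λ := Λ) ((epsPushMod Λ X).obj G)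
  have h1 : IsIso ((epsPushMod Λ X).map c) := by
    have ht := (epsAdjMod (Λ := Λ) (X := X)).right_triangle_components G
    have : IsIso ((epsAdjMod (Λ := Λ) (X := X)).unit.app ((epsPushMod Λ X).obj G) ≫ (epsPushMod Λ X).map c) := by
      rw [ht]; exact IsIso.id _
    exact IsIso.of_isIso_comp_left ((epsAdjMod (Λ := Λ) (X := X)).unit.app ((epsPushMod Λ X).obj G)) _
  have : ∀ a, IsIso ((ProEtS.epsAdj X).unit.app a) := fun a => ProEtLib.isIso_unit_eps a
  have : IsIso (uX.map c) :=
    isIso_of_adj (ProEtS.epsAdj X) (uX.map c) _ _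
      (asIso (pullForgetHom (ProEtS.eps X) X.smallEtaleTopology (Scheme.ProEt.topology X) Λ ((epsPushMod Λ X).obj G))) k
      (inferInstanceAs (IsIso ((uSheaf X.smallEtaleTopology Λ).map ((epsPushMod Λ X).map c))))
  have : IsIso c := isIso_of_reflects_iso c uX
  exact ⟨_, ⟨asIso c⟩⟩

/-- restriction along a covering is faithful -/
theorem faithful_restr {W X : Scheme.{u}} (π : W ⟶ X) [WeaklyEtale π] [Surjective π] [QuasiCompact π]
    [ProEtS.JPCont π] : (RecollMod.restrModP (Λ := Λ) π).Faithful := by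
  refine ⟨fun {F G} a b hab => Sheaf.hom_ext (NatTrans.ext (funext fun V => ConcreteCategory.hom_ext _ _ fun x => ?_))⟩
  have hV : WeaklyEtale V.unop.hom := V.unop.prop
  let p := pullback.fst V.unop.hom π
  let q := pullback.snd V.unop.hom π
  have : WeaklyEtale q := inferInstanceAs (WeaklyEtale (pullback.snd V.unop.hom π))
  let V' : W.ProEt := Scheme.ProEt.mk q
  let g : (ProEtS.compP π).obj V' ⟶ V.unop := MorphismProperty.Over.homMk p pullback.condition
  have hg : Sieve.generate (Presieve.singleton g) ∈ Scheme.ProEt.topology X V.unop :=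
    @ProEtLib.singleton_mem_topology _ _ _ g (inferInstanceAs (QuasiCompact p)) (inferInstanceAs (Surjective p))
  have hsep : Presieve.IsSeparated (Scheme.ProEt.topology X) (G.obj ⋙ forget (ModuleCat.{u + 1} Λ)) :=
    (((isSheaf_iff_isSheaf_of_type _ _).1 (GrothendieckTopology.HasSheafCompose.isSheaf _ G.2))).isSeparated
  refine (hsep _ hg).ext ?_
  rintro Y _ ⟨Z, c, _, ⟨⟩, rfl⟩
  show G.obj.map (c ≫ g).op (a.hom.app V x) = G.obj.map (c ≫ g).op (b.hom.app V x)
  rw [op_comp, Functor.map_comp_apply, Functor.map_comp_apply, ← NatTrans.naturality_apply a.hom g.op x,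
    ← NatTrans.naturality_apply b.hom g.op x]
  exact congrArg (fun k : (RecollMod.restrModP (Λ := Λ) π).obj F ⟶ _ =>
    G.obj.map c.op (k.hom.app (op V') (F.obj.map g.op x))) hab

/-- coming from the etale site descends along affine covers -/
theorem isCl_of_cover {W X : Scheme.{u}} [IsAffine W] [IsAffine X] (π : W ⟶ X) [WeaklyEtale π] [Surjective π]
    (G : EtModW.ModP Λ X) (h : IsCl ((pullModP (Λ := Λ) π).obj G)) : IsCl G := by
  have : ProEtS.JPCont π := jpCont π
  let adj := RecollMod.pullPushAdjModP (Λ := Λ) π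
  have := faithful_restr (Λ := Λ) π
  have : (pullModP (Λ := Λ) π).Faithful := Functor.Faithful.of_iso (RecollMod.restrIsoPull (Λ := Λ) π)
  have hm : ∀ Q, Mono (adj.unit.app Q) := fun Q => adj.unit_mono_of_L_faithful Q
  have hS := isWeakSerre_epsImage (Λ := Λ) (X := W) ⊤
  have hSX := isWeakSerre_epsImage (Λ := Λ) (X := X) ⊤
  have toP : ∀ {T : Scheme.{u}} {F : EtModW.ModP Λ T}, IsCl F → ∃ G : EtModW.Mod Λ T, (⊤ : ObjectProperty (EtModW.Mod Λ T)) G ∧
      Nonempty ((EtModW.epsPullMod Λ T).obj G ≅ F) := fun ⟨E, hE⟩ => ⟨E, trivial, hE⟩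
  have : PreservesFiniteColimits (pullModP (Λ := Λ) π) :=
    have := adj.leftAdjoint_preservesColimits
    inferInstance
  let G₁ := (pushModP (Λ := Λ) π).obj ((pullModP (Λ := Λ) π).obj G)
  let η : G ⟶ G₁ := adj.unit.app G
  let Q := cokernel η
  have hQ : IsCl ((pullModP (Λ := Λ) π).obj Q) := by
    obtain ⟨E, -, ⟨e⟩⟩ := ObjectProperty.prop_cokernel (P := fun F : EtModW.ModP Λ W =>
      ∃ G : EtModW.Mod Λ W, (⊤ : ObjectProperty (EtModW.Mod Λ W)) G ∧ Nonempty ((EtModW.epsPullMod Λ W).obj G ≅ F))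
      ((pullModP (Λ := Λ) π).map η) (toP h) (toP ((isCl_push π h).pull π))
    exact ⟨E, ⟨e ≪≫ (PreservesCokernel.iso (pullModP (Λ := Λ) π) η).symm⟩⟩
  have : Mono η := hm G
  have : Mono (adj.unit.app Q) := hm Q
  obtain ⟨E, -, ⟨e⟩⟩ := ObjectProperty.prop_kernel (P := fun F : EtModW.ModP Λ X =>
      ∃ G : EtModW.Mod Λ X, (⊤ : ObjectProperty (EtModW.Mod Λ X)) G ∧ Nonempty ((EtModW.epsPullMod Λ X).obj G ≅ F))
    (cokernel.π η ≫ adj.unit.app Q) (toP (isCl_push π h)) (toP (isCl_push π hQ))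
  exact ⟨E, ⟨e ≪≫ kernelCompMono (cokernel.π η) (adj.unit.app Q) ≪≫
    ((Abelian.monoIsKernelOfCokernel _ (cokernelIsCokernel η)).conePointUniqueUpToIso
      (kernelIsKernel (cokernel.π η))).symm⟩⟩

end Groth.Agent.ProLoc71
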