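import Groth.Agent.ProLoc71.Const

/-!
# Locally constant sheaves of finite presentation on the two sites
-/

universe u

open CategoryTheory CategoryTheory.Limits AlgebraicGeometry Opposite

namespace Groth.Agent.ProLoc71

open EtModLC71 EtModLC71.Classical

set_option backward.isDefEq.respectTransparency.types false
set_option linter.unusedSectionVars false

variable {Λ : Type (u + 1)} [CommRing Λ]

variable [∀ T : Scheme.{u}, ProEtS.EpsCont T] [hP : ∀ (A B : Scheme.{u}) (f : A ⟶ B), ProEtS.PCont f]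

/-- finitely many affine pieces trivialising a locally constant sheaf over an affine open -/
theorem exists_pieces {X : Scheme.{u}} {G : EtModW.ModP Λ X} (hG : EtModW.IsFPLocConstP Λ G)
    (A : X.Opens) (hA : IsAffineOpen A) :
    ∃ (ι : Type u) (_ : Finite ι) (Y : ι → Scheme.{u}) (p : ∀ i, Y i ⟶ X) (M : ι → ModuleCat.{u + 1} Λ),
      (∀ i, IsAffine (Y i) ∧ WeaklyEtale (p i) ∧ Set.range (p i).base ⊆ (A : Set X) ∧
        Module.FinitePresentation Λ (M i) ∧
        Nonempty ((EtModW.epsPullMod Λ (Y i)).obj ((constantSheaf (Y i).smallEtaleTopology (ModuleCat.{u + 1} Λ)).obj (M i)) ≅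
          (pullModP (Λ := Λ) (p i)).obj G)) ∧
      ∀ x ∈ A, ∃ i, x ∈ Set.range (p i).base := by
  obtain ⟨κ, U, hU, hM⟩ := hG
  let T := ProEtS.topP X
  let A' : T.left.Opens := A
  have hA' : IsAffine (ProEtLib.opObj T A').left := hA
  obtain ⟨ι₀, _, P, g, hRg, hPc, hPs, -⟩ := ProEtLib.exists_finite_compact_cover
    ((Scheme.ProEt.topology X).pullback_stable (ProEtLib.opHom T A') hU)
  have hfac : ∀ i, ∃ (k : κ) (a : P i ⟶ U k), True := fun i => by
    obtain ⟨Z, a, _, ⟨k⟩, -⟩ := hRg i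
    exact ⟨k, a, trivial⟩
  choose k a _ using hfac
  choose M iM iM' fM eM using fun i => hM (k i)
  let C := fun i => (P i).left.affineCover.finiteSubcover
  let Y : (Σ i, (C i).I₀) → Scheme.{u} := fun s => (C s.1).X s.2
  let p : ∀ s, Y s ⟶ X := fun s => (C s.1).f s.2 ≫ (P s.1).hom
  refine ⟨Σ i, (C i).I₀, inferInstance, Y, p, fun s => ModuleCat.of Λ (M s.1), fun s => ?_, fun x hx => ?_⟩
  · have hPh : WeaklyEtale (P s.1).hom := (P s.1).prop
    have hw : WeaklyEtale (p s) := MorphismProperty.comp_mem (W := @WeaklyEtale) _ _ inferInstance hPh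
    have haff : IsAffine (Y s) := inferInstanceAs (IsAffine ((P s.1).left.affineCover.X _))
    refine ⟨haff, hw, ?_, fM s.1, ?_⟩
    · rintro _ ⟨y, rfl⟩
      have h := MorphismProperty.Over.w (g s.1)
      have : p s = ((C s.1).f s.2 ≫ (g s.1).left) ≫ (A'.ι ≫ T.hom) :=
        (congrArg ((C s.1).f s.2 ≫ ·) h.symm).trans (Category.assoc _ _ _).symm
      rw [this, Scheme.Hom.comp_apply]
      refine (congrArg (fun k : A'.toScheme ⟶ X => k.base (((C s.1).f s.2 ≫ (g s.1).left).base y) ∈ (A : Set X))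
        (Category.comp_id A'.ι)).mpr ?_
      exact (((C s.1).f s.2 ≫ (g s.1).left).base y).2
    · let gu : Y s ⟶ (U (k s.1)).left := (C s.1).f s.2 ≫ (a s.1).left
      have hgu : gu ≫ (U (k s.1)).hom = p s :=
        (Category.assoc _ _ _).trans (congrArg ((C s.1).f s.2 ≫ ·) (MorphismProperty.Over.w (a s.1)))
      have : WeaklyEtale (gu ≫ (U (k s.1)).hom) := by rw [hgu]; exact hw
      have : ProEtS.JPCont (gu ≫ (U (k s.1)).hom) := jpCont _
      obtain ⟨r⟩ := nonempty_restr_iso gu (ModuleCat.of Λ (M s.1)) G (eM s.1)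
      let r' := (constIsoMod Λ (Y s)).app (ModuleCat.of Λ (M s.1)) ≪≫ r.symm ≪≫
        (RecollMod.restrIsoPull (Λ := Λ) (gu ≫ (U (k s.1)).hom)).app G
      exact ⟨hgu ▸ r'⟩
  · have hx' : ∃ z : (ProEtLib.opObj T A').left, A'.ι.base z = x := ⟨⟨x, hx⟩, rfl⟩
    obtain ⟨z, hz⟩ := hx'
    obtain ⟨i, q, hq⟩ := hPs z
    obtain ⟨j, y, hy⟩ := (C i).exists_eq q
    refine ⟨⟨i, j⟩, y, ?_⟩
    show ((C i).f j ≫ (P i).hom).base y = x
    rw [Scheme.Hom.comp_apply, hy, ← hz, ← hq, ← MorphismProperty.Over.w (g i)]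
    exact (Scheme.Hom.comp_apply _ _ _).trans (congrArg (fun k : A'.toScheme ⟶ X => k.base _) (Category.comp_id A'.ι))

/-- locally constant sheaves of finite presentation come from the etale site -/
theorem isCl_of_isFPLocConstP {X : Scheme.{u}} {G : EtModW.ModP Λ X} (hG : EtModW.IsFPLocConstP Λ G) : IsCl G := by
  have := isIso_counit_of_affine G fun A hA => by
    obtain ⟨ι, _, Y, p, M, hp, hcov⟩ := exists_pieces hG A hA
    have : IsAffine A.toScheme := hA
    have hr : ∀ i, Set.range (p i).base ⊆ Set.range A.ι.base := fun i => (hp i).2.2.1.trans A.range_ι.ge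
    let p' : ∀ i, Y i ⟶ A.toScheme := fun i => IsOpenImmersion.lift A.ι (p i) (hr i)
    have hp' : ∀ i, p' i ≫ A.ι = p i := fun i => IsOpenImmersion.lift_fac _ _ _
    have hw : ∀ i, WeaklyEtale (p' i) := fun i =>
      MorphismProperty.of_postcomp (W := @WeaklyEtale) (W' := @WeaklyEtale) (p' i) A.ι inferInstance
        (show WeaklyEtale (p' i ≫ A.ι) by rw [hp']; exact (hp i).2.1)
    let π := Sigma.desc p'
    have : WeaklyEtale π := IsZariskiLocalAtSource.sigmaDesc hw
    have : Surjective π := ⟨fun a => by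
      obtain ⟨i, y, hy⟩ := hcov (A.ι.base a) a.2
      refine ⟨(Sigma.ι Y i).base y, A.ι.isOpenEmbedding.injective ?_⟩
      rw [← Scheme.Hom.comp_apply, ← Scheme.Hom.comp_apply, Sigma.ι_desc_assoc, hp']
      exact hy⟩
    have : ∀ i, IsAffine (Y i) := fun i => (hp i).1
    refine isCl_of_cover π _ (isCl_of_openCover _ (fun i => (Sigma.ι Y i).opensRange) (fun x => ?_) fun i => ?_)
    · obtain ⟨⟨i, y⟩, hy⟩ := (sigmaMk Y).surjective x
      exact ⟨i, y, by rw [← hy]; exact (sigmaMk_mk Y i y).symm⟩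
    · obtain ⟨e⟩ := (hp i).2.2.2.2
      let s := (Sigma.ι Y i).opensRange.ι
      have hfac : (Sigma.ι Y i).isoOpensRange.hom ≫ s = Sigma.ι Y i := Scheme.Hom.isoOpensRange_hom_ι _
      have h1 : IsCl ((pullModP (Λ := Λ) (p' i ≫ A.ι)).obj G) := pullCongrP (hp' i).symm G ⟨_, ⟨e⟩⟩
      have h2 : IsCl ((pullModP (Λ := Λ) (((Sigma.ι Y i).isoOpensRange.inv ≫ p' i) ≫ A.ι)).obj G) := by
        refine pullCongrP (Category.assoc _ _ _).symm G ?_
        exact (h1.pull (Sigma.ι Y i).isoOpensRange.inv).of_iso ((pullCompP (Λ := Λ) _ (p' i ≫ A.ι)).app G).symm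
      have h3 : (Sigma.ι Y i).isoOpensRange.inv ≫ p' i = s ≫ π := by
        rw [Iso.inv_comp_eq, ← Category.assoc, hfac, Sigma.ι_desc]
      have h4 := pullCongrP (congrArg (· ≫ A.ι) h3) G h2
      exact (h4.of_iso ((pullCompP (Λ := Λ) (s ≫ π) A.ι).app G)).of_iso
        ((pullCompP (Λ := Λ) s π).app ((pullModP (Λ := Λ) A.ι).obj G))
  exact ⟨_, ⟨@asIso _ _ _ _ _ this⟩⟩

/-- etale sheaves whose pro-etale pullback is locally constant are locally constant -/
theorem isFPLocConst_of_epsPull {X : Scheme.{u}} {G : EtModW.ModP Λ X} (hG : EtModW.IsFPLocConstP Λ G)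
    (F : EtModW.Mod Λ X) (e : (EtModW.epsPullMod Λ X).obj F ≅ G) : EtModW.IsFPLocConst Λ F := by
  have key : ∀ x : X, ∃ (M : ModuleCat.{u + 1} Λ) (_ : Module.FinitePresentation Λ M) (V : X.Etale) (v : V.left)
      (φ : M ⟶ F.obj.obj (op V)), V.hom.base v = x ∧ EtFound.ConstBy F φ := fun x => by
    obtain ⟨A, hA, hx, -⟩ := exists_isAffineOpen_mem_and_subset (show x ∈ (⊤ : X.Opens) from trivial)
    obtain ⟨ι, _, Y, p, M, hp, hcov⟩ := exists_pieces hG A hA
    have : ∀ i, IsAffine (Y i) := fun i => (hp i).1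
    have : ∀ i, WeaklyEtale (p i) := fun i => (hp i).2.1
    have : ∀ i, Module.FinitePresentation Λ (M i) := fun i => (hp i).2.2.2.1
    choose ψ hψ using fun i => exists_constBy_top (H := (EtModW.pull Λ (p i)).obj F) (M := M i) <|
      epsFF.preimageIso ((epsPullBC (Λ := Λ) (p i)).app F ≪≫ (pullModP (Λ := Λ) (p i)).mapIso e ≪≫
        (hp i).2.2.2.2.some.symm)
    have : ∀ i, IsAffine (EtCoh.top (Y i)).left := fun i => (hp i).1
    obtain ⟨i, V, v, φ, hv, hφ⟩ := exists_constBy_of_cover F A hA Y p (fun i => (hp i).2.2.1) hcov M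
      (fun i => EtCoh.top (Y i)) (fun i y => ⟨y, rfl⟩) ψ hψ
      (fun i T => ⟨(EtCore.topIsTerminal (Y i)).from T⟩) x hx
    exact ⟨M i, inferInstance, V, v, φ, hv, hφ⟩
  choose M hM V v φ hv hφ using key
  exact ⟨X, V, fun x => ⟨x, v x, hv x⟩, fun x => ⟨M x, inferInstance, inferInstance, hM x,
    EtFound.nonempty_restr_iso_const (hφ x)⟩⟩

/-- pulling back preserves local constancy -/
theorem isFPLocConstP_epsPull {X : Scheme.{u}} (F : EtModW.Mod Λ X) (hF : EtModW.IsFPLocConst Λ F) :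
    EtModW.IsFPLocConstP Λ ((EtModW.epsPullMod Λ X).obj F) := by
  obtain ⟨ι, U, hU, hM⟩ := hF
  refine ⟨ι, fun i => (ProEtS.eps X).obj (U i), ?_, fun i => ?_⟩
  · refine ProEtLib.mem_topology_of_etale (U := ProEtS.topP X) (fun i => (ProEtS.eps X).obj (U i))
      (fun i => MorphismProperty.Over.homMk (U i).hom) (fun i => (U i).prop) (fun x => ?_)
      fun i => Sieve.ofArrows_mk _ _ i
    obtain ⟨i, y, hy⟩ := hU x
    exact ⟨i, y, hy⟩
  · obtain ⟨M, iM, iM', fM, ⟨a⟩⟩ := hM i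
    refine ⟨M, iM, iM', fM, ?_⟩
    let j : (U i).left ⟶ X := (U i).hom
    have hj : Etale j := (U i).prop
    obtain ⟨φ, hφ⟩ := EtFound.exists_constBy a
    have hc := EtFound.constBy_pull j hφ
    let d : EtCoh.top (U i).left ⟶ (EtCoh.bc j).obj (U i) :=
      MorphismProperty.Over.homMk (pullback.lift (𝟙 _) (𝟙 _) rfl) (pullback.lift_snd _ _ _)
    obtain ⟨b⟩ := nonempty_iso_of_constBy_top (hc.restrict d)
    have : WeaklyEtale ((ProEtS.eps X).obj (U i)).hom := ((ProEtS.eps X).obj (U i)).prop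
    have : ProEtS.JPCont ((ProEtS.eps X).obj (U i)).hom := jpCont _
    refine nonempty_over_iso (ModuleCat.of Λ M) _ ⟨?_⟩
    exact (RecollMod.restrIsoPull (Λ := Λ) ((ProEtS.eps X).obj (U i)).hom).app _ ≪≫
      ((epsPullBC (Λ := Λ) j).app F).symm ≪≫ (EtModW.epsPullMod Λ (U i).left).mapIso b ≪≫
      (constIsoMod Λ (U i).left).app (ModuleCat.of Λ M)

end Groth.Agent.ProLoc71
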